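import Mathlib
import Cfsg.Agent.OddHalf.NI3.Bad.Frame_m3
import Cfsg.Agent.CTwoTab.Base
import Cfsg.Agent.ClassicalGeometry.OmegaIndex
import Cfsg.Agent.CTwoTab.Exc
import Cfsg.Agent.S0144
import Cfsg.Agent.S0243
import Cfsg.Agent.S0245
import Cfsg.Agent.S0246
import Cfsg.Agent.S0280
import Cfsg.Agent.S0298
import Cfsg.Agent.S0299
import Cfsg.Agent.S0822
import Cfsg.Agent.H283.NoIn
import Cfsg.Agent.ResEven.Congr_m3
import Cfsg.Agent.SigTab.RestList_m3
import Cfsg.Agent.FastGrp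
import Cfsg.Agent.Prune
set_option linter.all false
prune_inst 0x7fbcfcfba9fd2ddfdfff7e7fa6fecffdffbcbfffe6fff9cbffe0ebffafdf7b8acbe5fb8f8feb50fe1ff7e23c10fc7b53f9fffeffe26bfc7ffffd5ff45ffbff9ffdf7bd0871969c340fbc2fff63f0778e7f3fffffffffffffffffffffffffffbeffbfffffffff
open scoped Cfsg.Agent.FastGrp

-- merged: Cfsg.Agent.CharThree.Fixed
section

/-!
# An elementary abelian 2-group `D` which normalises a finite group `R ≠ 1` (helper67)

`exists_fixed` : some `r ≠ 1` of `R` is fixed by a subgroup of `D` of index at most 2.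
-/

set_option autoImplicit false

namespace Cfsg.Agent.CharThree

open Subgroup

/-- an element `t` with `t² = 1` which normalises `R` and has no fixed point on `R` inverts `R` -/
theorem inverts {X : Type*} [Group X] [Finite X] {R : Subgroup X} {t : X} (ht : t * t = 1)
    (hn : ∀ r ∈ R, t * r * t⁻¹ ∈ R) (hf : ∀ r ∈ R, t * r = r * t → r = 1) {r : X} (hr : r ∈ R) :
    t * r * t⁻¹ = r⁻¹ := by
  let φ : ↥R →* ↥R :=
    { toFun := fun r => ⟨t * r * t⁻¹, hn r r.2⟩
      map_one' := by ext; simp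
      map_mul' := fun a b => by ext; simp only [mul_assoc, _root_.Subgroup.coe_mul, _root_.mul_assoc, _root_.MulMemClass.mk_mul_mk, _root_.inv_mul_cancel_left] }
  have h1 : MonoidHom.FixedPointFree φ := by
    intro g hg
    have h2 : t * (g : X) * t⁻¹ = g := congrArg Subtype.val hg
    apply Subtype.ext
    apply hf g g.2
    rw [mul_inv_eq_iff_eq_mul] at h2
    exact h2
  have h2 : Function.Involutive φ := by
    intro g
    apply Subtype.ext
    show t * (t * (g : X) * t⁻¹) * t⁻¹ = g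
    have h3 : t⁻¹ * t⁻¹ = 1 := by rw [← mul_inv_rev, ht, inv_one]
    calc t * (t * (g : X) * t⁻¹) * t⁻¹ = (t * t) * g * (t⁻¹ * t⁻¹) := by group
      _ = g := by rw [ht, h3, one_mul, mul_one]
  have h3 := h1.coe_eq_inv_of_involutive h2
  exact congrArg Subtype.val (congrFun h3 ⟨r, hr⟩)

/-- **Fixed points**: a subgroup of index at most 2 of `D` fixes an element `r ≠ 1` of `R`. -/
theorem exists_fixed {X : Type*} [Group X] [Finite X] {D R : Subgroup X} (hD : ∀ t ∈ D, t * t = 1)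
    (hR : R ≠ ⊥) (hn : ∀ t ∈ D, ∀ r ∈ R, t * r * t⁻¹ ∈ R) :
    ∃ r ∈ R, r ≠ 1 ∧ ∀ s ∈ D, ∀ t ∈ D, s * r ≠ r * s → t * r ≠ r * t → s * t * r = r * (s * t) := by
  classical
  have hinv : ∀ t ∈ D, t⁻¹ = t := fun t ht => inv_eq_of_mul_eq_one_left (hD t ht)
  have hcomm : ∀ s ∈ D, ∀ t ∈ D, s * t = t * s := by
    intro s hs t ht
    have h1 := hD _ (D.mul_mem hs ht)
    calc s * t = (s * t) * 1 := by rw [mul_one]
      _ = (s * t) * ((t * t) * (s * s)⁻¹) := by rw [hD t ht, hD s hs]; simp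
      _ = (s * t * t) * (t * s⁻¹ * s⁻¹) := by group
      _ = (s * (t * t)) * (t * s⁻¹ * s⁻¹) := by rw [mul_assoc s t t]
      _ = s * (t * s⁻¹ * s⁻¹) := by rw [hD t ht, mul_one]
      _ = s * (t * s * s) := by rw [hinv s hs]
      _ = (s * t) * (s * s) := by group
      _ = s * t := by rw [hD s hs, mul_one]
      _ = s * t * ((s * t) * (s * t))⁻¹ := by rw [h1]; simp
      _ = (s * t)⁻¹ := by group
      _ = t⁻¹ * s⁻¹ := by rw [mul_inv_rev]
      _ = t * s := by rw [hinv s hs, hinv t ht]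
  -- a maximal subgroup of `D` with a nontrivial fixed point
  let S : Set (Subgroup X) := {E | E ≤ D ∧ ∃ r ∈ R, r ≠ 1 ∧ ∀ e ∈ E, e * r = r * e}
  have hS : S.Nonempty := by
    obtain ⟨r, hr, hr1⟩ := R.bot_or_exists_ne_one.resolve_left hR
    refine ⟨⊥, bot_le, r, hr, hr1, ?_⟩
    intro e he
    rw [mem_bot] at he
    rw [he, one_mul, mul_one]
  obtain ⟨E, hE⟩ := (Set.toFinite S).exists_maximal hS
  obtain ⟨hED, r, hr, hr1, her⟩ := hE.1
  have hmax : ∀ t ∈ D, t ∉ E → ∀ r' ∈ R, (∀ e ∈ E, e * r' = r' * e) → t * r' = r' * t → r' = 1 := by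
    intro t ht htE r' hr' he' htr
    by_contra hne
    apply htE
    have h1 : E ⊔ zpowers t ∈ S := by
      refine ⟨sup_le hED (zpowers_le.2 ht), r', hr', hne, ?_⟩
      intro e he
      have h2 : E ⊔ zpowers t ≤ centralizer {r'} := by
        refine sup_le (fun e he => ?_) (zpowers_le.2 ?_)
        · rw [mem_centralizer_singleton_iff]; exact he' e he
        · rw [mem_centralizer_singleton_iff]; exact htr
      exact mem_centralizer_singleton_iff.1 (h2 he)
    have h3 : E ⊔ zpowers t ≤ E := hE.2 h1 le_sup_left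
    exact h3 ((le_sup_right : zpowers t ≤ E ⊔ zpowers t) (mem_zpowers t))
  let R' : Subgroup X := R ⊓ centralizer (E : Set X)
  have hmem : ∀ {a : X}, a ∈ R' ↔ a ∈ R ∧ ∀ e ∈ E, e * a = a * e := by
    intro a
    exact Iff.rfl.and mem_centralizer_iff
  have hR'n : ∀ t ∈ D, ∀ a ∈ R', t * a * t⁻¹ ∈ R' := by
    intro t ht a ha
    rw [hmem] at ha ⊢
    refine ⟨hn t ht a ha.1, fun e he => ?_⟩
    have h1 := hcomm e (hED he) t ht
    have h2 : t⁻¹ * e = e * t⁻¹ := by
      rw [hinv t ht]; exact (hcomm e (hED he) t ht).symm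
    calc e * (t * a * t⁻¹) = (e * t) * a * t⁻¹ := by group
      _ = t * (e * a) * t⁻¹ := by rw [h1]; group
      _ = t * a * (e * t⁻¹) := by rw [ha.2 e he]; group
      _ = t * a * t⁻¹ * e := by rw [← h2]; group
  have hinvt : ∀ t ∈ D, t ∉ E → ∀ a ∈ R', t * a * t⁻¹ = a⁻¹ := by
    intro t ht htE a ha
    refine inverts (hD t ht) (hR'n t ht) ?_ ha
    intro b hb htb
    rw [hmem] at hb
    exact hmax t ht htE b hb.1 hb.2 htb
  have hrR' : r ∈ R' := hmem.2 ⟨hr, her⟩
  refine ⟨r, hr, hr1, ?_⟩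
  intro s hs t ht hsr htr
  have hsE : s ∉ E := fun h => hsr (her s h)
  have htE : t ∉ E := fun h => htr (her t h)
  have h1 := hinvt s hs hsE r⁻¹ (R'.inv_mem hrR')
  have h2 := hinvt t ht htE r hrR'
  have h3 : s * t * r * (s * t)⁻¹ = r := by
    calc s * t * r * (s * t)⁻¹ = s * (t * r * t⁻¹) * s⁻¹ := by group
      _ = s * r⁻¹ * s⁻¹ := by rw [h2]
      _ = r := by rw [h1, inv_inv]
  exact mul_inv_eq_iff_eq_mul.1 h3

end Cfsg.Agent.CharThree

end

-- merged: Cfsg.Agent.CharThree.Sign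
section

/-!
# Sign changes of an orthogonal basis over `F₃` (helper67)

`four` : `r ∈ O Q`, `D` a group of sign changes of a full orthogonal family which separates the members, a subgroup of `D`
of index at most 2 commutes with `r`: then `r⁴ = 1`.
-/

set_option autoImplicit false
set_option linter.unusedSectionVars false
set_option linter.unusedSimpArgs false

namespace Cfsg.Agent.CharThree

open QuadraticMap Module Cfsg.Agent.LieClassical.OrthCore Cfsg.Agent.OddHalf.NI3.Bad.Emb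
  Cfsg.Agent.ClassicalGeometry.OddInvolutions Cfsg.Agent.OddHalf.NI3.Bad.QPair Cfsg.Agent.OddHalf.NI3.Bad.Sim
  Cfsg.Agent.OddHalf.NI3.Bad.Frame

variable {F V : Type*} [Field F] [AddCommGroup V] [Module F V]

/-- `t` is a sign change of `f` -/
def Sgn {ι : Type} (f : ι → V) (t : V ≃ₗ[F] V) : Prop := ∀ i, t (f i) = f i ∨ t (f i) = -f i

/-- `t` has the same sign at `i` and `j` -/
def Same {ι : Type} (f : ι → V) (t : V ≃ₗ[F] V) (i j : ι) : Prop := t (f i) = f i ↔ t (f j) = f j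

/-- the group separates the members of the family -/
def Sep {ι : Type} (f : ι → V) (D : Subgroup (V ≃ₗ[F] V)) : Prop := ∀ i j, i ≠ j → ∃ t ∈ D, ¬ Same f t i j

theorem Same.symm {ι : Type} {f : ι → V} {t : V ≃ₗ[F] V} {i j : ι} (h : Same f t i j) : Same f t j i := Iff.symm h

theorem Same.trans {ι : Type} {f : ι → V} {t : V ≃ₗ[F] V} {i j k : ι} (h : Same f t i j) (h' : Same f t j k) :
    Same f t i k := Iff.trans h h'

variable [Fintype F] [FiniteDimensional F V] {Q : QuadraticForm F V}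
  {ι : Type} [Fintype ι] [DecidableEq ι] {d : ι → F} {f : ι → V}

theorem ne_neg (hF : Fintype.card F = 3) {v : V} (hv : v ≠ 0) : v ≠ -v := by
  intro h
  have h1 : (2 : F) • v = 0 := by
    rw [two_smul]
    nth_rewrite 1 [h]
    simp
  exact hv ((smul_eq_zero.1 h1).resolve_left (two_ne hF))

theorem not_same_mul (hF : Fintype.card F = 3) (hf : OF Q d f) {s t : V ≃ₗ[F] V} (hs : Sgn f s) (ht : Sgn f t)
    {i j : ι} (h1 : Same f s i j) (h2 : ¬ Same f t i j) : ¬ Same f (s * t) i j := by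
  have hi := ne_neg hF (OF_ne_zero hf i)
  have hj := ne_neg hF (OF_ne_zero hf j)
  unfold Same at *
  have e : ∀ x : V, (s * t) x = s (t x) := fun _ => rfl
  rcases hs i with a | a <;> rcases hs j with b | b <;> rcases ht i with a' | a' <;> rcases ht j with b' | b' <;>
    simp only [e, a, b, a', b', map_neg, neg_neg, hi.symm, hj.symm, iff_true, true_iff, iff_false, false_iff,
      not_true_eq_false, not_false_eq_true] at h1 h2 ⊢

/-- partners -/
def Ptn (f : ι → V) (D : Subgroup (V ≃ₗ[F] V)) (r : V ≃ₗ[F] V) (i j : ι) : Prop :=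
  ∀ t ∈ D, t * r = r * t → Same f t i j

theorem ptn_uniq (hF : Fintype.card F = 3) (hf : OF Q d f) {D : Subgroup (V ≃ₗ[F] V)} (hsg : ∀ t ∈ D, Sgn f t)
    (hsep : Sep f D) {r : V ≃ₗ[F] V}
    (hidx : ∀ s ∈ D, ∀ t ∈ D, s * r ≠ r * s → t * r ≠ r * t → s * t * r = r * (s * t))
    {i j k : ι} (hij : Ptn f D r i j) (hik : Ptn f D r i k) (h1 : i ≠ j) (h2 : i ≠ k) : j = k := by
  by_contra hjk
  obtain ⟨t, ht, htjk⟩ := hsep j k hjk
  -- `t` does not separate `i` from one of `j`, `k`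
  have key : ∀ {j k : ι}, Ptn f D r i j → Ptn f D r i k → i ≠ k → ¬ Same f t i j → Same f t i k → False := by
    intro j k hij hik h2 h3 h4
    have ht1 : t * r ≠ r * t := fun h => h3 (hij t ht h)
    obtain ⟨s, hs, hs1⟩ := hsep i k h2
    have hs2 : s * r ≠ r * s := fun h => hs1 (hik s hs h)
    have h5 := hidx t ht s hs ht1 hs2
    exact not_same_mul hF hf (hsg t ht) (hsg s hs) h4 hs1 (hik _ (D.mul_mem ht hs) h5)
  by_cases h3 : Same f t i j
  · by_cases h4 : Same f t i k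
    · exact htjk (h3.symm.trans h4)
    · exact key hik hij h1 h4 h3
  · by_cases h4 : Same f t i k
    · exact key hij hik h2 h3 h4
    · -- three vectors, two signs
      apply htjk
      unfold Same at *
      have hi := ne_neg hF (OF_ne_zero hf i)
      have hj := ne_neg hF (OF_ne_zero hf j)
      have hk := ne_neg hF (OF_ne_zero hf k)
      rcases hsg t ht i with a | a <;> rcases hsg t ht j with b | b <;> rcases hsg t ht k with c | c <;>
        simp only [a, b, c, hi.symm, hj.symm, hk.symm, iff_true, true_iff, iff_false, false_iff,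
          not_true_eq_false, not_false_eq_true] at h3 h4 ⊢

theorem polar_ptn (hF : Fintype.card F = 3) (hf : OF Q d f) {D : Subgroup (V ≃ₗ[F] V)} (hDO : D ≤ O Q)
    (hsg : ∀ t ∈ D, Sgn f t) {r : V ≃ₗ[F] V} {i j : ι} (h : polar Q (f j) (r (f i)) ≠ 0) : Ptn f D r i j := by
  intro t ht htr
  by_contra hs
  apply h
  have hi := ne_neg hF (OF_ne_zero hf i)
  have hj := ne_neg hF (OF_ne_zero hf j)
  have h1 := polar_map (hDO ht) (f j) (r (f i))
  have h2 : t (r (f i)) = r (t (f i)) := LinearEquiv.congr_fun htr (f i)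
  rw [h2] at h1
  have h3 : polar Q (f j) (r (f i)) = - polar Q (f j) (r (f i)) := by
    unfold Same at hs
    rcases hsg t ht i with a | a <;> rcases hsg t ht j with b | b <;>
      simp only [a, b, hi.symm, hj.symm, iff_true, true_iff, iff_false, false_iff, map_neg,
        not_true_eq_false, not_false_eq_true, polar_neg_left, polar_neg_right, neg_neg] at h1 hs ⊢
    · exact h1.symm
    · exact h1.symm
  have h4 : (2 : F) * polar Q (f j) (r (f i)) = 0 := by linear_combination h3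
  exact (mul_eq_zero.1 h4).resolve_left (two_ne hF)

/-- the image of a member of the family -/
theorem ptn_exists (hF : Fintype.card F = 3) (hf : OF Q d f) (hc : Fintype.card ι = finrank F V)
    {D : Subgroup (V ≃ₗ[F] V)} (hDO : D ≤ O Q) (hsg : ∀ t ∈ D, Sgn f t)
    (hsep : Sep f D) {r : V ≃ₗ[F] V} (hr : r ∈ O Q)
    (hidx : ∀ s ∈ D, ∀ t ∈ D, s * r ≠ r * s → t * r ≠ r * t → s * t * r = r * (s * t)) (i : ι) :
    ∃ j, Ptn f D r i j ∧ (r (f i) = f j ∨ r (f i) = -f j) := by
  have h2 := two_ne hF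
  set! α := (hf.ad h2).R (r (f i)) with hα
  have hL : r (f i) = ∑ k, α k • f k := by
    have h1 : r (f i) - (hf.ad h2).L α = 0 := hf.eq_zero h2 hc fun k => OF_proj_mem h2 hf _ k
    rw [← hf.L_apply h2]
    exact sub_eq_zero.1 h1
  have hQ : d i = ∑ k, d k * (α k * α k) := by
    have h1 : Q (r (f i)) = d i := by rw [mem_O.1 hr, hf.nm]
    have h3 : Q (r (f i)) = DQ d α := by
      rw [hL, ← hf.L_apply h2]; exact (hf.ad h2).nm α
    rw [← h1, h3, DQ_apply]
  have hp : ∀ k, α k ≠ 0 → Ptn f D r i k := by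
    intro k hk
    apply polar_ptn hF hf hDO hsg
    intro h
    apply hk
    rw [hα, hf.R_apply h2, h, mul_zero]
  by_cases hcase : ∃ j, j ≠ i ∧ α j ≠ 0
  · obtain ⟨j, hji, hj⟩ := hcase
    have hpj := hp j hj
    have h0 : ∀ k, k ≠ i → k ≠ j → α k = 0 := by
      intro k hki hkj
      by_contra hk
      exact hkj (ptn_uniq hF hf hsg hsep hidx (hp k hk) hpj (Ne.symm hki) (Ne.symm hji))
    have hi0 : α i = 0 := by
      by_contra hi
      rw [Finset.sum_eq_add (a := i) (b := j) (Ne.symm hji)] at hQ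
      · rw [mul_self_eq hF hi, mul_self_eq hF hj, mul_one, mul_one] at hQ
        exact hf.ne j (by linear_combination -hQ)
      · intro k _ hk
        rw [h0 k hk.1 hk.2]; ring
      · intro h; exact absurd (Finset.mem_univ _) h
      · intro h; exact absurd (Finset.mem_univ _) h
    refine ⟨j, hpj, ?_⟩
    rw [hL, Finset.sum_eq_single j]
    · rcases cases hF (α j) with h | h | h
      · exact absurd h hj
      · left; rw [h, one_smul]
      · right; rw [h, neg_smul, one_smul]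
    · intro k _ hk
      by_cases hki : k = i
      · rw [hki, hi0, zero_smul]
      · rw [h0 k hki hk, zero_smul]
    · intro h; exact absurd (Finset.mem_univ _) h
  · push Not at hcase
    have hi : α i ≠ 0 := by
      intro h
      apply hf.ne i
      rw [hQ]
      refine Finset.sum_eq_zero fun k _ => ?_
      by_cases hki : k = i
      · rw [hki, h]; ring
      · rw [hcase k hki]; ring
    refine ⟨i, hp i hi, ?_⟩
    rw [hL, Finset.sum_eq_single i]
    · rcases cases hF (α i) with h | h | h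
      · exact absurd h hi
      · left; rw [h, one_smul]
      · right; rw [h, neg_smul, one_smul]
    · intro k _ hk
      rw [hcase k hk, zero_smul]
    · intro h; exact absurd (Finset.mem_univ _) h

theorem pm_ne (hF : Fintype.card F = 3) (hf : OF Q d f) {i j : ι} (hij : i ≠ j) : f i ≠ f j ∧ f i ≠ -f j := by
  have h1 : polar Q (f i) (f i) ≠ 0 := by
    rw [polar_self', hf.nm]; exact mul_ne_zero (two_ne hF) (hf.ne i)
  constructor
  · intro h
    apply h1
    nth_rewrite 2 [h]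
    exact hf.orth i j hij
  · intro h
    apply h1
    nth_rewrite 2 [h]
    rw [polar_neg_right, hf.orth i j hij, neg_zero]

/-- **`r⁴ = 1`** -/
theorem four (hF : Fintype.card F = 3) (hf : OF Q d f) (hc : Fintype.card ι = finrank F V)
    {D : Subgroup (V ≃ₗ[F] V)} (hDO : D ≤ O Q) (hsg : ∀ t ∈ D, Sgn f t)
    (hsep : Sep f D) {r : V ≃ₗ[F] V} (hr : r ∈ O Q)
    (hidx : ∀ s ∈ D, ∀ t ∈ D, s * r ≠ r * s → t * r ≠ r * t → s * t * r = r * (s * t)) :
    r * r * (r * r) = 1 := by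
  have h2 := two_ne hF
  have hsq : ∀ i, r (r (f i)) = f i ∨ r (r (f i)) = -f i := by
    intro i
    obtain ⟨j, hij, hj⟩ := ptn_exists hF hf hc hDO hsg hsep hr hidx i
    by_cases hji : j = i
    · subst hji
      rcases hj with h | h
      · left; rw [h, h]
      · left; rw [h, map_neg, h, neg_neg]
    · obtain ⟨k, hjk, hk⟩ := ptn_exists hF hf hc hDO hsg hsep hr hidx j
      have hkj : k ≠ j := by
        rintro rfl
        have h3 := pm_ne hF hf (Ne.symm hji)
        have h4 : r (f i) = r (f k) ∨ r (f i) = r (-f k) := by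
          rw [map_neg]
          rcases hj with h | h <;> rcases hk with h' | h' <;> rw [h, h'] <;> simp
        rcases h4 with h4 | h4
        · exact h3.1 (r.injective h4)
        · exact h3.2 (r.injective h4)
      have hki : k = i := by
        refine ptn_uniq hF hf hsg hsep hidx (i := j) hjk ?_ (Ne.symm hkj) hji
        intro t ht htr
        exact (hij t ht htr).symm
      subst hki
      rcases hj with h | h <;> rcases hk with h' | h' <;> rw [h] <;> simp only [map_neg, h', neg_neg] <;> simp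
  apply LinearEquiv.ext
  intro v
  have h3 : ∀ i, (r * r * (r * r)) (f i) = f i := by
    intro i
    show r (r (r (r (f i)))) = f i
    rcases hsq i with h | h
    · rw [h, h]
    · rw [h, map_neg, map_neg, h, neg_neg]
  exact ext_full h2 hf hc h3 v

/-- an element of odd order with the property of `four` is trivial -/
theorem eq_one_of_odd (hF : Fintype.card F = 3) (hf : OF Q d f) (hc : Fintype.card ι = finrank F V)
    {D : Subgroup (V ≃ₗ[F] V)} (hDO : D ≤ O Q) (hsg : ∀ t ∈ D, Sgn f t)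
    (hsep : Sep f D) {r : V ≃ₗ[F] V} (hr : r ∈ O Q)
    (hidx : ∀ s ∈ D, ∀ t ∈ D, s * r ≠ r * s → t * r ≠ r * t → s * t * r = r * (s * t))
    {m : ℕ} (hm : Odd m) (hrm : r ^ m = 1) : r = 1 := by
  have h4 : r ^ 4 = 1 := by
    rw [← four hF hf hc hDO hsg hsep hr hidx]
    simp only [pow_succ, pow_zero, one_mul, mul_assoc]
  have h5 : Nat.Coprime 4 m := by
    have : Nat.Coprime 2 m := (Nat.coprime_two_left).2 hm
    exact Nat.Coprime.pow_left 2 this
  have h6 := orderOf_dvd_of_pow_eq_one h4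
  have h7 := orderOf_dvd_of_pow_eq_one hrm
  have h8 := Nat.dvd_gcd h6 h7
  rw [h5.gcd_eq_one, Nat.dvd_one] at h8
  exact orderOf_eq_one_iff.1 h8

end Cfsg.Agent.CharThree

end

-- merged: Cfsg.Agent.CharThree.Core
section

/-!
# `O(C(x)) = 1` in `Ω(V)/Z`, `V` over `F₃` (helper67)

`core_bot` : `x ∈ Ω(V)/Z` commutes with the image of a group of sign changes of an orthogonal basis which separates the
members: then `O(C(x)) = 1`.
-/

set_option autoImplicit false
set_option linter.unusedSectionVars false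

namespace Cfsg.Agent.CharThree

open QuadraticMap Module Cfsg.Agent.LieClassical.OrthCore Cfsg.Agent.OddHalf.NI3.Bad.Emb
  Cfsg.Agent.ClassicalGeometry.OddInvolutions Cfsg.Agent.OddHalf.NI3.Bad.QPair Cfsg.Agent.OddHalf.NI3.Bad.Sim
  Cfsg.Agent.OddHalf.NI3.Bad.Frame

/-! ### Lifting elements of odd order -/

section lift

variable {H : Type*} [Group H] {Z : Subgroup H}

theorem lift_odd [Z.Normal] (hZ : ∀ z ∈ Z, z * z = 1) (x : H ⧸ Z) {m : ℕ} (hm : Odd m) (hx : x ^ m = 1) :
    ∃ h : H, (h : H ⧸ Z) = x ∧ h ^ m = 1 := by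
  obtain ⟨h, rfl⟩ := QuotientGroup.mk_surjective x
  have h1 : h ^ m ∈ Z := by
    rw [← QuotientGroup.eq_one_iff]; exact hx
  refine ⟨h ^ (m + 1), ?_, ?_⟩
  · rw [QuotientGroup.mk_pow, pow_succ, hx, one_mul]
  · obtain ⟨k, hk⟩ := hm
    rw [← pow_mul, mul_comm, pow_mul, show m + 1 = 2 * (k + 1) by omega, pow_mul, pow_two, hZ _ h1, one_pow]

theorem comm_lift (hc : Z ≤ Subgroup.center H) (hZ : ∀ z ∈ Z, z * z = 1) {t r : H} {m : ℕ} (hm : Odd m)
    (hr : r ^ m = 1) (h : t * r * t⁻¹ * r⁻¹ ∈ Z) : t * r = r * t := by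
  set z := t * r * t⁻¹ * r⁻¹ with hz
  have h1 : Commute z r := (Subgroup.mem_center_iff.1 (hc h) r).symm
  have h2 : t * r * t⁻¹ = z * r := by rw [hz]; group
  have h3 : (t * r * t⁻¹) ^ m = 1 := by rw [conj_pow, hr]; group
  rw [h2, h1.mul_pow, hr, mul_one] at h3
  have h4 : z = 1 := by
    obtain ⟨k, hk⟩ := hm
    rw [hk, pow_succ, pow_mul, pow_two, hZ _ h, one_pow, one_mul] at h3
    exact h3
  rw [h4, one_mul] at h2
  exact mul_inv_eq_iff_eq_mul.1 h2

end lift

variable {F V : Type*} [Field F] [Fintype F] [AddCommGroup V] [Module F V] [FiniteDimensional F V]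
  {Q : QuadraticForm F V}

theorem neg_comm (g : V ≃ₗ[F] V) : g * LinearEquiv.neg F = LinearEquiv.neg F * g := by
  ext v
  show g (-v) = - g v
  rw [map_neg]

theorem neg_mul_neg' : (LinearEquiv.neg F : V ≃ₗ[F] V) * LinearEquiv.neg F = 1 := by
  ext v
  show - -v = v
  rw [neg_neg]

/-- the centre of `Ω(V)` -/
theorem center_cases (hF : Fintype.card F = 3) (hQ : Nondeg Q) (hn : 3 ≤ finrank F V) {z : Om Q}
    (hz : z ∈ Subgroup.center (Om Q)) : z = 1 ∨ (z : V ≃ₗ[F] V) = LinearEquiv.neg F := by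
  by_cases h : _root_.Cfsg.Agent.OddHalf.NI3.Bad.Sim.Neg Q
  · have h1 := card_center (two_ne hF) hQ hn h
    rw [Nat.card_eq_two_iff' (1 : Subgroup.center (Om Q))] at h1
    have h2 : (⟨LinearEquiv.neg F, h⟩ : Om Q) ∈ Subgroup.center (Om Q) := by
      rw [Subgroup.mem_center_iff]
      intro g
      exact Subtype.ext (neg_comm _)
    have h3 : (LinearEquiv.neg F : V ≃ₗ[F] V) ≠ 1 := by
      intro h4
      have : Nontrivial V := Module.nontrivial_of_finrank_pos (R := F) (by omega)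
      obtain ⟨v, hv⟩ := exists_ne (0 : V)
      exact ne_neg hF hv (LinearEquiv.congr_fun h4 v).symm
    by_cases hz1 : z = 1
    · exact Or.inl hz1
    · right
      have h4 := h1.unique (y₁ := ⟨z, hz⟩) (y₂ := ⟨⟨LinearEquiv.neg F, h⟩, h2⟩)
        (fun h => hz1 (congrArg Subtype.val h))
        (fun h => h3 (congrArg (fun a : Subgroup.center (Om Q) => ((a : Om Q) : V ≃ₗ[F] V)) h))
      exact congrArg (fun a : Subgroup.center (Om Q) => ((a : Om Q) : V ≃ₗ[F] V)) h4
  · left
    rw [center_eq_bot hQ hn h, Subgroup.mem_bot] at hz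
    exact hz

theorem center_sq (hF : Fintype.card F = 3) (hQ : Nondeg Q) (hn : 3 ≤ finrank F V) :
    ∀ z ∈ Subgroup.center (Om Q), z * z = 1 := by
  intro z hz
  rcases center_cases hF hQ hn hz with h | h
  · rw [h, one_mul]
  · apply Subtype.ext
    show (z : V ≃ₗ[F] V) * (z : V ≃ₗ[F] V) = 1
    rw [h, neg_mul_neg']

variable {ι : Type} [Fintype ι] [DecidableEq ι] {d : ι → F} {f : ι → V}

theorem Sgn.sq (hF : Fintype.card F = 3) (hf : OF Q d f) (hc : Fintype.card ι = finrank F V) {t : V ≃ₗ[F] V}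
    (ht : Sgn f t) : t * t = 1 := by
  apply LinearEquiv.ext
  refine fun v => ext_full (two_ne hF) hf hc (g := t * t) (fun i => ?_) v
  show t (t (f i)) = f i
  rcases ht i with h | h
  · rw [h, h]
  · rw [h, map_neg, h, neg_neg]

/-- **`O(C(x)) = 1`** -/
theorem core_bot (hF : Fintype.card F = 3) (hQ : Nondeg Q) (hn : 3 ≤ finrank F V)
    (hf : OF Q d f) (hc : Fintype.card ι = finrank F V) (D : Subgroup (Om Q))
    (hsg : ∀ t ∈ D, Sgn f (t : V ≃ₗ[F] V)) (hsep : Sep f (D.map (Om Q).subtype))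
    {x : Om Q ⧸ Subgroup.center (Om Q)}
    (hx : ∀ t ∈ D, (t : Om Q ⧸ Subgroup.center (Om Q)) * x = x * (t : Om Q ⧸ Subgroup.center (Om Q))) :
    centralizerPPrimeCore 2 x = ⊥ := by
  have hfin : Finite V := Module.finite_of_finite F
  have hfin' : Finite (V ≃ₗ[F] V) := Finite.of_injective (fun g : V ≃ₗ[F] V => (g : V → V)) DFunLike.coe_injective
  have hZ2 := center_sq hF hQ hn
  by_contra hne
  set! R := centralizerPPrimeCore 2 x with hR; rewrite [← hR] at hne
  let D' : Subgroup (Om Q ⧸ Subgroup.center (Om Q)) := D.map (QuotientGroup.mk' (Subgroup.center (Om Q)))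
  have hN : (pPrimeCore 2 ↥(Subgroup.centralizer ({x} : Set (Om Q ⧸ Subgroup.center (Om Q))))).Normal := Lib.Cores.pPrimeCore_normal 2
  have hodd : (Nat.card ↥R).Coprime 2 := by
    rw [hR, centralizerPPrimeCore, Nat.card_congr ((pPrimeCore 2 ↥(Subgroup.centralizer
      ({x} : Set (Om Q ⧸ Subgroup.center (Om Q))))).equivMapOfInjective _ (Subgroup.subtype_injective _)).toEquiv.symm]
    exact Lib.Cores.pPrimeCore_coprime 2
  obtain ⟨r', hr'R, hr'1, hr'⟩ := exists_fixed (D := D') (R := R) (by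
    rintro _ ⟨t, ht, rfl⟩
    rw [← map_mul]
    have h1 : t * t = 1 := Subtype.ext ((hsg t ht).sq hF hf hc)
    rw [h1, map_one]) hne (by
    rintro _ ⟨t, ht, rfl⟩ _ ⟨r, hr, rfl⟩
    have h1 : (QuotientGroup.mk' (Subgroup.center (Om Q)) t) ∈ Subgroup.centralizer ({x} : Set (Om Q ⧸ Subgroup.center (Om Q))) :=
      Subgroup.mem_centralizer_singleton_iff.2 (hx t ht)
    exact ⟨_, hN.conj_mem r hr ⟨_, h1⟩, rfl⟩)
  -- the order of `r'` is odd
  have hm : Odd (orderOf r') := by
    have h1 : orderOf r' ∣ Nat.card R := by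
      have := orderOf_dvd_natCard (⟨r', hr'R⟩ : ↥R)
      rwa [Subgroup.orderOf_mk] at this
    exact Nat.coprime_two_right.1 (Nat.Coprime.coprime_dvd_left h1 hodd)
  obtain ⟨r, hr, hrm⟩ := lift_odd hZ2 r' hm (pow_orderOf_eq_one r')
  have hiff : ∀ t : Om Q, (t : Om Q ⧸ Subgroup.center (Om Q)) * r' = r' * (t : Om Q ⧸ Subgroup.center (Om Q)) → t * r = r * t := by
    intro t ht
    refine comm_lift (Z := Subgroup.center (Om Q)) le_rfl hZ2 hm hrm ?_
    rw [← QuotientGroup.eq_one_iff]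
    rw [← hr] at ht
    rw [QuotientGroup.mk_mul, QuotientGroup.mk_mul, QuotientGroup.mk_mul, ht, QuotientGroup.mk_inv,
      QuotientGroup.mk_inv, mul_assoc, mul_assoc, mul_inv_cancel_left, mul_inv_cancel]
  have hr1 : (r : V ≃ₗ[F] V) = 1 := by
    refine eq_one_of_odd hF hf hc (D := D.map (Om Q).subtype) ?_ ?_ hsep
      (Subgroup.commutator_le_self _ r.2) ?_ hm (by
        rw [← Subgroup.coe_pow, hrm]; rfl)
    · rintro _ ⟨t, -, rfl⟩
      exact Subgroup.commutator_le_self _ t.2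
    · rintro _ ⟨t, ht, rfl⟩
      exact hsg t ht
    · rintro _ ⟨s, hs, rfl⟩ _ ⟨t, ht, rfl⟩ h1 h2
      have h3 : (s : Om Q ⧸ Subgroup.center (Om Q)) * r' ≠ r' * (s : Om Q ⧸ Subgroup.center (Om Q)) := fun h => h1 (congrArg Subtype.val (hiff s h))
      have h4 : (t : Om Q ⧸ Subgroup.center (Om Q)) * r' ≠ r' * (t : Om Q ⧸ Subgroup.center (Om Q)) := fun h => h2 (congrArg Subtype.val (hiff t h))
      have h5 := hr' _ ⟨s, hs, rfl⟩ _ ⟨t, ht, rfl⟩ h3 h4
      exact congrArg Subtype.val (hiff (s * t) h5)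
  apply hr'1
  rw [← hr, show r = 1 from Subtype.ext hr1]
  rfl

end Cfsg.Agent.CharThree

end

-- merged: Cfsg.Agent.CharThree.Perf
section

/-!
# Perfect subgroups of centralizers modulo the centre (helper67)

* `perf_le` : a perfect subgroup of `C_{H/Z}(w)` lies in the image of `[C_H(w), C_H(w)]`;
* `perf_le_left` : a perfect subgroup of `B D`, `[B, D] = 1`, `D` solvable, lies in `B`;
* `mem_sup_comm` : the elements of `B D`.
-/

set_option autoImplicit false

namespace Cfsg.Agent.CharThree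

open scoped commutatorElement
open Subgroup

section

variable {H : Type*} [Group H]

theorem mem_sup_comm {B D : Subgroup H} (h : ∀ b ∈ B, ∀ d ∈ D, b * d = d * b) {x : H} :
    x ∈ B ⊔ D ↔ ∃ b ∈ B, ∃ d ∈ D, x = b * d := by
  constructor
  · intro hx
    let S : Subgroup H :=
      { carrier := {x | ∃ b ∈ B, ∃ d ∈ D, x = b * d}
        mul_mem' := by
          rintro _ _ ⟨b, hb, d, hd, rfl⟩ ⟨b', hb', d', hd', rfl⟩
          refine ⟨b * b', B.mul_mem hb hb', d * d', D.mul_mem hd hd', ?_⟩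
          calc b * d * (b' * d') = b * (d * b') * d' := by group
            _ = b * (b' * d) * d' := by rw [h b' hb' d hd]
            _ = _ := by group
        one_mem' := ⟨1, B.one_mem, 1, D.one_mem, by rw [mul_one]⟩
        inv_mem' := by
          rintro _ ⟨b, hb, d, hd, rfl⟩
          refine ⟨b⁻¹, B.inv_mem hb, d⁻¹, D.inv_mem hd, ?_⟩
          rw [mul_inv_rev]
          exact (h _ (B.inv_mem hb) _ (D.inv_mem hd)).symm }
    have h1 : B ⊔ D ≤ S := by
      refine sup_le (fun b hb => ⟨b, hb, 1, D.one_mem, by rw [mul_one]⟩)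
        (fun d hd => ⟨1, B.one_mem, d, hd, by rw [one_mul]⟩)
    exact h1 hx
  · rintro ⟨b, hb, d, hd, rfl⟩
    exact mul_mem ((le_sup_left : B ≤ B ⊔ D) hb) ((le_sup_right : D ≤ B ⊔ D) hd)

theorem commutator_mul_of_comm {a b a' b' : H} (h1 : a * b' = b' * a) (h2 : a * b = b * a)
    (h3 : a' * b = b * a') (h4 : a' * b' = b' * a') : ⁅a * b, a' * b'⁆ = ⁅a, a'⁆ * ⁅b, b'⁆ := by
  have e1 : Commute a b' := h1
  have e2 : Commute a b := h2
  have e3 : Commute a' b := h3
  have e4 : Commute a' b' := h4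
  rw [commutatorElement_def, commutatorElement_def, commutatorElement_def, mul_inv_rev, mul_inv_rev]
  calc a * b * (a' * b') * (b⁻¹ * a⁻¹) * (b'⁻¹ * a'⁻¹)
      = a * (b * a') * b' * b⁻¹ * (a⁻¹ * b'⁻¹) * a'⁻¹ := by group
    _ = a * (a' * b) * b' * b⁻¹ * (b'⁻¹ * a⁻¹) * a'⁻¹ := by rw [e3.eq, (e1.inv_inv).eq]
    _ = a * a' * (b * b' * b⁻¹ * b'⁻¹ * (a⁻¹ * a'⁻¹)) := by group
    _ = a * a' * ((a⁻¹ * a'⁻¹) * (b * b' * b⁻¹ * b'⁻¹)) := by
        congr 1
        have c1 : Commute b (a⁻¹ * a'⁻¹) := (e2.symm.inv_right).mul_right (e3.symm.inv_right)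
        have c2 : Commute b' (a⁻¹ * a'⁻¹) := (e1.symm.inv_right).mul_right (e4.symm.inv_right)
        exact (((c1.mul_left c2).mul_left c1.inv_left).mul_left c2.inv_left).eq
    _ = _ := by group

/-- a perfect subgroup of `B D`, `[B, D] = 1`, `D` solvable, lies in `B` -/
theorem perf_le_left {B D P : Subgroup H} (h : ∀ b ∈ B, ∀ d ∈ D, b * d = d * b) (hD : Group.IsSolvable ↥D)
    (hP : P ≤ B ⊔ D) (hPP : ⁅P, P⁆ = P) : P ≤ B := by
  have key : ∀ n : ℕ, P ≤ B ⊔ (derivedSeries ↥D n).map D.subtype := by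
    intro n
    induction n with
    | zero =>
      rw [derivedSeries_zero, ← MonoidHom.range_eq_map, Subgroup.range_subtype]
      exact hP
    | succ n ih =>
      set E := (derivedSeries ↥D n).map D.subtype with hE
      have hED : E ≤ D := map_subtype_le _
      have h1 : (derivedSeries ↥D (n + 1)).map D.subtype = ⁅E, E⁆ := by
        rw [derivedSeries_succ, map_commutator]
      rw [h1, ← hPP]
      rw [commutator_le]
      intro x hx y hy
      have hBE : ∀ b ∈ B, ∀ e ∈ E, b * e = e * b := fun b hb e he => h b hb e (hED he)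
      obtain ⟨b, hb, e, he, rfl⟩ := (mem_sup_comm hBE).1 (ih hx)
      obtain ⟨b', hb', e', he', rfl⟩ := (mem_sup_comm hBE).1 (ih hy)
      rw [commutator_mul_of_comm (hBE b hb e' he') (hBE b hb e he) (hBE b' hb' e he) (hBE b' hb' e' he')]
      refine mul_mem ((le_sup_left : B ≤ _) ?_) ((le_sup_right : ⁅E, E⁆ ≤ _) (commutator_mem_commutator he he'))
      exact B.mul_mem (B.mul_mem (B.mul_mem hb hb') (B.inv_mem hb)) (B.inv_mem hb')
  obtain ⟨n, hn⟩ := (Group.isSolvable_def ↥D).1 hD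
  have h1 := key n
  rwa [hn, Subgroup.map_bot, sup_bot_eq] at h1

/-- a solvable perfect group is trivial -/
theorem perf_solvable {P : Subgroup H} (hs : Group.IsSolvable ↥P) (hPP : ⁅P, P⁆ = P) : P = ⊥ := by
  rw [eq_bot_iff]
  refine perf_le_left (B := ⊥) (D := P) ?_ hs le_sup_right hPP
  intro b hb d _
  rw [mem_bot] at hb
  rw [hb, one_mul, mul_one]

/-- a perfect subgroup of `C_{H/Z}(w)` lies in the image of `[C_H(w), C_H(w)]` -/
theorem perf_le {Z : Subgroup H} [Z.Normal] (hZ : Z ≤ center H) {w : H} {P : Subgroup (H ⧸ Z)}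
    (hP : P ≤ centralizer ({(w : H ⧸ Z)} : Set (H ⧸ Z))) (hPP : ⁅P, P⁆ = P) :
    P ≤ (⁅centralizer ({w} : Set H), centralizer ({w} : Set H)⁆ : Subgroup H).map (QuotientGroup.mk' Z) := by
  set π := QuotientGroup.mk' Z with hπ
  have hsurj : Function.Surjective π := QuotientGroup.mk'_surjective Z
  have hC : ∀ g ∈ (centralizer ({(w : H ⧸ Z)} : Set (H ⧸ Z))).comap π, ∃ z ∈ Z, g * w * g⁻¹ = z * w := by
    intro g hg
    refine ⟨g * w * g⁻¹ * w⁻¹, ?_, by group⟩
    rw [← QuotientGroup.eq_one_iff]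
    have h1 : (g : H ⧸ Z) * (w : H ⧸ Z) = (w : H ⧸ Z) * (g : H ⧸ Z) := mem_centralizer_singleton_iff.1 hg
    rw [QuotientGroup.mk_mul, QuotientGroup.mk_mul, QuotientGroup.mk_mul, h1, QuotientGroup.mk_inv,
      QuotientGroup.mk_inv, mul_assoc, mul_assoc, mul_inv_cancel_left, mul_inv_cancel]
  -- the commutators of the preimage centralise `w`
  have h1 : (⁅P.comap π, P.comap π⁆ : Subgroup H) ≤ centralizer ({w} : Set H) := by
    rw [commutator_le]
    intro g hg k hk
    obtain ⟨z, hz, hgz⟩ := hC g (comap_mono hP hg)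
    obtain ⟨y, hy, hky⟩ := hC k (comap_mono hP hk)
    rw [mem_centralizer_singleton_iff, commutatorElement_def]
    have cz : ∀ a : H, Commute z a := fun a => (mem_center_iff.1 (hZ hz) a).symm
    have cy : ∀ a : H, Commute y a := fun a => (mem_center_iff.1 (hZ hy) a).symm
    have e1 : g * w = z * w * g := by rw [← hgz]; group
    have e2 : k * w = y * w * k := by rw [← hky]; group
    have e3 : g⁻¹ * w = z⁻¹ * w * g⁻¹ := by
      have : g * (z⁻¹ * w) = w * g := by
        rw [← mul_assoc, ← ((cz g).inv_left).eq, mul_assoc, e1, mul_assoc, inv_mul_cancel_left]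
      calc g⁻¹ * w = g⁻¹ * (w * g) * g⁻¹ := by group
        _ = g⁻¹ * (g * (z⁻¹ * w)) * g⁻¹ := by rw [this]
        _ = _ := by group
    have e4 : k⁻¹ * w = y⁻¹ * w * k⁻¹ := by
      have : k * (y⁻¹ * w) = w * k := by
        rw [← mul_assoc, ← ((cy k).inv_left).eq, mul_assoc, e2, mul_assoc, inv_mul_cancel_left]
      calc k⁻¹ * w = k⁻¹ * (w * k) * k⁻¹ := by group
        _ = k⁻¹ * (k * (y⁻¹ * w)) * k⁻¹ := by rw [this]
        _ = _ := by group
    calc g * k * g⁻¹ * k⁻¹ * w = g * k * g⁻¹ * (k⁻¹ * w) := by group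
      _ = g * k * (g⁻¹ * y⁻¹) * w * k⁻¹ := by rw [e4]; group
      _ = g * k * y⁻¹ * (g⁻¹ * w) * k⁻¹ := by rw [← ((cy g⁻¹).inv_left).eq]; group
      _ = g * (k * y⁻¹) * z⁻¹ * w * g⁻¹ * k⁻¹ := by rw [e3]; group
      _ = g * y⁻¹ * (k * z⁻¹) * w * g⁻¹ * k⁻¹ := by rw [← ((cy k).inv_left).eq]; group
      _ = g * y⁻¹ * z⁻¹ * (k * w) * g⁻¹ * k⁻¹ := by rw [← ((cz k).inv_left).eq]; group
      _ = g * y⁻¹ * (z⁻¹ * y) * w * k * g⁻¹ * k⁻¹ := by rw [e2]; group
      _ = g * z⁻¹ * w * k * g⁻¹ * k⁻¹ := by rw [← (cy z⁻¹).eq]; group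
      _ = z⁻¹ * (g * w) * k * g⁻¹ * k⁻¹ := by rw [← ((cz g).inv_left).eq]; group
      _ = w * (g * k * g⁻¹ * k⁻¹) := by rw [e1]; group
  have hmap : (P.comap π).map π = P := map_comap_eq_self_of_surjective hsurj P
  have h2 : (⁅P.comap π, P.comap π⁆ : Subgroup H).map π = P := by
    rw [map_commutator, hmap, hPP]
  have h3 : (⁅(⁅P.comap π, P.comap π⁆ : Subgroup H), (⁅P.comap π, P.comap π⁆ : Subgroup H)⁆ : Subgroup H).map π = P := by
    rw [map_commutator, h2, hPP]
  rw [← h3]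
  exact map_mono (commutator_mono h1 h1)

end

end Cfsg.Agent.CharThree

end

-- merged: Cfsg.Agent.CharThree.Adp
section

/-!
# Involutions of `O(V)` over `F₃` (helper67)

`Adp Q w f f'` : `f` an orthogonal basis of `C_V(w)`, `f'` one of `[V, w]`, all values but the first ones are 1.
* `exists_adp` : `w² = 1`, `w ≠ ±1`;
* `Adp.comm_mem` : `⁅g, h⁆ ∈ B ⊔ B'` for `g`, `h` in `C_{O(V)}(w)`; `B`, `B'` the derived groups of the two factors.
-/

set_option autoImplicit false
set_option linter.unusedSectionVars false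

namespace Cfsg.Agent.CharThree

open scoped commutatorElement
open QuadraticMap Module Cfsg.Agent.LieClassical.OrthCore Cfsg.Agent.OddHalf.NI3.Bad.Emb
  Cfsg.Agent.ClassicalGeometry.OddInvolutions Cfsg.Agent.OddHalf.NI3.Bad.QPair Cfsg.Agent.OddHalf.NI3.Bad.Sim
  Cfsg.Agent.OddHalf.NI3.Bad.Frame

variable {F V : Type*} [Field F] [Fintype F] [AddCommGroup V] [Module F V] [FiniteDimensional F V]
  {Q : QuadraticForm F V}

/-! ### Families in subspaces -/

/-- an orthogonal basis of a nondegenerate subspace, all values but the first are 1 -/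
theorem exists_OF_sub (h2 : (2 : F) ≠ 0) (W : Submodule F V) (hW : Nondeg (res Q W)) {k : ℕ}
    (hk : k + 1 = finrank F W) : ∃ c : F, c ≠ 0 ∧ ∃ f : Fin (k + 1) → V,
      OF Q (fun i => if i = 0 then c else 1) f ∧ ∀ i, f i ∈ W := by
  obtain ⟨c, hc, f, hf⟩ := exists_OF_one h2 hW (ι := Fin (k + 1)) (by rw [Fintype.card_fin, hk]) 0
  exact ⟨c, hc, fun i => (f i : V), ⟨fun i => hf.nm i, hf.ne, fun i j hij => hf.orth i j hij⟩, fun i => (f i).2⟩

/-- the eigenspaces -/
def eg (w : V ≃ₗ[F] V) (ε : F) : Submodule F V where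
  carrier := {v | w v = ε • v}
  add_mem' {a b} ha hb := by
    show w (a + b) = ε • (a + b)
    rw [map_add, ha, hb, smul_add]
  zero_mem' := by show w 0 = ε • 0; rw [map_zero, smul_zero]
  smul_mem' c a ha := by
    show w (c • a) = ε • (c • a)
    rw [map_smul, ha, smul_comm]

theorem mem_eg {w : V ≃ₗ[F] V} {ε : F} {v : V} : v ∈ eg w ε ↔ w v = ε • v := Iff.rfl

theorem nondeg_eg (h2 : (2 : F) ≠ 0) (hQ : Nondeg Q) {w : V ≃ₗ[F] V} (hw : w ∈ O Q) (hw2 : w * w = 1) {ε : F}
    (hε : ε * ε = 1) : Nondeg (res Q (eg w ε)) := by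
  intro u hu
  apply Subtype.ext
  apply hQ
  intro y
  have hww : ∀ v, w (w v) = v := fun v => LinearEquiv.congr_fun hw2 v
  have h1 : y + ε • w y ∈ eg w ε := by
    rw [mem_eg, map_add, map_smul, hww, smul_add, smul_smul, hε, one_smul, add_comm]
  have h3 : polar Q (u : V) (y + ε • w y) = 0 := hu ⟨_, h1⟩
  have h4 : polar Q (u : V) (w y) = ε * polar Q (u : V) y := by
    have h5 := polar_map hw (u : V) y
    rw [mem_eg.1 u.2, polar_smul_left, smul_eq_mul] at h5
    calc polar Q (u : V) (w y) = (ε * ε) * polar Q (u : V) (w y) := by rw [hε, one_mul]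
      _ = ε * (ε * polar Q (u : V) (w y)) := by ring
      _ = _ := by rw [h5]
  rw [polar_add_right, polar_smul_right, h4, smul_eq_mul] at h3
  have h5 : (2 : F) * polar Q (u : V) y = 0 := by
    linear_combination h3 - polar Q (u : V) y * hε
  exact (mul_eq_zero.1 h5).resolve_left h2

/-- **an adapted frame** -/
structure Adp (Q : QuadraticForm F V) (w : V ≃ₗ[F] V) {a b : ℕ} (c c' : F) (f : Fin (a + 1) → V)
    (f' : Fin (b + 1) → V) : Prop where
  hf : OF Q (fun i => if i = 0 then c else 1) f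
  hf' : OF Q (fun i => if i = 0 then c' else 1) f'
  orth : ∀ i j, polar Q (f i) (f' j) = 0
  wf : ∀ i, w (f i) = f i
  wf' : ∀ j, w (f' j) = -f' j
  card : a + 1 + (b + 1) = finrank F V

theorem exists_adp (hF : Fintype.card F = 3) (hQ : Nondeg Q) {w : V ≃ₗ[F] V} (hw : w ∈ O Q) (hw2 : w * w = 1)
    (h1 : w ≠ 1) (h1' : w ≠ LinearEquiv.neg F) :
    ∃ (a b : ℕ) (c c' : F) (f : Fin (a + 1) → V) (f' : Fin (b + 1) → V), Adp Q w c c' f f' := by
  have h2 := two_ne hF
  have hww : ∀ v, w (w v) = v := fun v => LinearEquiv.congr_fun hw2 v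
  have hcompl : IsCompl (eg w (1 : F)) (eg w (-1 : F)) := by
    constructor
    · rw [Submodule.disjoint_def]
      intro x hx hx'
      rw [mem_eg] at hx hx'
      rw [hx, one_smul, neg_smul, one_smul] at hx'
      by_contra h
      exact ne_neg hF h hx'
    · rw [codisjoint_iff, eq_top_iff]
      intro x _
      rw [Submodule.mem_sup]
      refine ⟨(2 : F)⁻¹ • (x + w x), ?_, (2 : F)⁻¹ • (x - w x), ?_, ?_⟩
      · apply Submodule.smul_mem
        rw [mem_eg, map_add, hww, one_smul, add_comm]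
      · apply Submodule.smul_mem
        rw [mem_eg, map_sub, hww, neg_smul, one_smul, neg_sub]
      · rw [← smul_add]
        have : x + w x + (x - w x) = (2 : F) • x := by rw [two_smul]; abel
        rw [this, smul_smul, inv_mul_cancel₀ h2, one_smul]
  have hsum := Submodule.finrank_add_eq_of_isCompl hcompl
  have hpos : 0 < finrank F (eg w (1 : F)) := by
    have : ∃ v, w v ≠ -v := by
      by_contra hcon
      push Not at hcon
      exact h1' (LinearEquiv.ext hcon)
    obtain ⟨v, hv⟩ := this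
    have hne : (⟨v + w v, by rw [mem_eg, map_add, hww, one_smul, add_comm]⟩ : eg w (1 : F)) ≠ 0 := by
      intro h
      apply hv
      have h3 : v + w v = 0 := congrArg Subtype.val h
      exact (neg_eq_of_add_eq_zero_right h3).symm
    have : Nontrivial (eg w (1 : F)) := ⟨_, 0, hne⟩
    exact Module.finrank_pos
  have hpos' : 0 < finrank F (eg w (-1 : F)) := by
    have : ∃ v, w v ≠ v := by
      by_contra hcon
      push Not at hcon
      exact h1 (LinearEquiv.ext hcon)
    obtain ⟨v, hv⟩ := this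
    have hne : (⟨v - w v, by rw [mem_eg, map_sub, hww, neg_smul, one_smul, neg_sub]⟩ : eg w (-1 : F)) ≠ 0 := by
      intro h
      apply hv
      have h3 : v - w v = 0 := congrArg Subtype.val h
      exact (sub_eq_zero.1 h3).symm
    have : Nontrivial (eg w (-1 : F)) := ⟨_, 0, hne⟩
    exact Module.finrank_pos
  obtain ⟨a, ha⟩ : ∃ a, a + 1 = finrank F (eg w (1 : F)) := ⟨_, Nat.succ_pred_eq_of_pos hpos⟩
  obtain ⟨b, hb⟩ : ∃ b, b + 1 = finrank F (eg w (-1 : F)) := ⟨_, Nat.succ_pred_eq_of_pos hpos'⟩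
  obtain ⟨c, hc, f, hf, hfm⟩ := exists_OF_sub h2 _ (nondeg_eg h2 hQ hw hw2 (ε := 1) (by ring)) ha
  obtain ⟨c', hc', f', hf', hfm'⟩ := exists_OF_sub h2 _ (nondeg_eg h2 hQ hw hw2 (ε := -1) (by ring)) hb
  have hwf : ∀ i, w (f i) = f i := fun i => by have := mem_eg.1 (hfm i); rwa [one_smul] at this
  have hwf' : ∀ i, w (f' i) = -f' i := fun i => by have := mem_eg.1 (hfm' i); rwa [neg_smul, one_smul] at this
  refine ⟨a, b, c, c', f, f', hf, hf', fun i j => ?_, hwf, hwf', by rw [ha, hb, hsum]⟩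
  have h3 := polar_map hw (f i) (f' j)
  rw [hwf, hwf', polar_neg_right] at h3
  have h4 : (2 : F) * polar Q (f i) (f' j) = 0 := by linear_combination -h3
  exact (mul_eq_zero.1 h4).resolve_left h2

/-! ### The two factors of the centralizer -/

/-- the restriction to an invariant subspace -/
theorem Ad.exists_res {W : Type*} [AddCommGroup W] [Module F W] {q : QuadraticForm F W} (A : Ad q Q)
    {g : V ≃ₗ[F] V} (hg : g ∈ O Q) (h1 : ∀ a, g (A.L a) = A.L (A.R (g (A.L a))))
    (h2 : ∀ a, g⁻¹ (A.L a) = A.L (A.R (g⁻¹ (A.L a)))) :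
    ∃ h ∈ O q, ∀ a, A.L (h a) = g (A.L a) := by
  let h : W ≃ₗ[F] W := LinearEquiv.ofLinearMap (A.R.comp (g.toLinearMap.comp A.L))
      (A.R.comp ((g⁻¹).toLinearMap.comp A.L))
      (by
        ext a
        show A.R (g (A.L (A.R (g⁻¹ (A.L a))))) = a
        rw [← h2]
        show A.R (g (g.symm (A.L a))) = a
        rw [LinearEquiv.apply_symm_apply, A.RL])
      (by
        ext a
        show A.R (g⁻¹ (A.L (A.R (g (A.L a))))) = a
        rw [← h1]
        show A.R (g.symm (g (A.L a))) = a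
        rw [LinearEquiv.symm_apply_apply, A.RL])
  have hh : ∀ a, h a = A.R (g (A.L a)) := fun a => rfl
  have hL : ∀ a, A.L (h a) = g (A.L a) := fun a => by rw [hh, ← h1]
  refine ⟨h, ?_, hL⟩
  intro a
  rw [← A.nm, hL, mem_O.1 hg, A.nm]

section adp

variable {w : V ≃ₗ[F] V} {a b : ℕ} {c c' : F} {f : Fin (a + 1) → V} {f' : Fin (b + 1) → V}

/-- the full family -/
theorem Adp.full (h : Adp Q w c c' f f') :
    OF Q (Sum.elim (fun i => if i = 0 then c else 1) (fun i => if i = 0 then c' else 1)) (Sum.elim f f') :=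
  OF_sum h.hf h.hf' h.orth

theorem Adp.fcard (h : Adp Q w c c' f f') : Fintype.card (Fin (a + 1) ⊕ Fin (b + 1)) = finrank F V := by
  rw [Fintype.card_sum, Fintype.card_fin, Fintype.card_fin, h.card]

/-- the negative of an involution -/
theorem Adp.neg (h : Adp Q w c c' f f') : Adp Q (LinearEquiv.neg F * w) c' c f' f where
  hf := h.hf'
  hf' := h.hf
  orth i j := by rw [polar_comm]; exact h.orth j i
  wf i := by show - w (f' i) = f' i; rw [h.wf', neg_neg]
  wf' i := by show - w (f i) = -f i; rw [h.wf]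
  card := by rw [← h.card]; ring

theorem Adp.zero (h2 : (2 : F) ≠ 0) (h : Adp Q w c c' f f') {x : V} (h3 : ∀ i, polar Q (f i) x = 0)
    (h4 : ∀ i, polar Q (f' i) x = 0) : x = 0 := by
  apply h.full.eq_zero h2 h.fcard
  rintro (i | i)
  · exact h3 i
  · exact h4 i

/-- the fixed vectors of `w` -/
theorem Adp.fix (h2 : (2 : F) ≠ 0) (h : Adp Q w c c' f f') (hw : w ∈ O Q) {x : V} (hx : w x = x) :
    x = (h.hf.ad h2).L ((h.hf.ad h2).R x) := by
  rw [← sub_eq_zero]
  apply h.zero h2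
  · intro i
    exact OF_proj_mem h2 h.hf x i
  · intro j
    have h3 : polar Q (f' j) x = 0 := by
      have h4 := polar_map hw (f' j) x
      rw [h.wf', hx, polar_neg_left] at h4
      have h5 : (2 : F) * polar Q (f' j) x = 0 := by linear_combination -h4
      exact (mul_eq_zero.1 h5).resolve_left h2
    rw [polar_sub_right, h3, zero_sub, neg_eq_zero, polar_comm, (h.hf.ad h2).ad]
    have h4 : (h.hf.ad h2).R (f' j) = 0 := by
      rw [h.hf.R_eq_zero_iff h2]
      exact fun i => h.orth i j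
    rw [h4, polar_zero_right]

theorem Adp.w_L (h2 : (2 : F) ≠ 0) (h : Adp Q w c c' f f') (x : Fin (a + 1) → F) :
    w ((h.hf.ad h2).L x) = (h.hf.ad h2).L x := by
  rw [h.hf.L_apply h2, map_sum]
  refine Finset.sum_congr rfl fun i _ => ?_
  rw [map_smul, h.wf]

/-- the restriction of an element of the centralizer to the fixed space -/
theorem Adp.exists_res (h2 : (2 : F) ≠ 0) (h : Adp Q w c c' f f') (hw : w ∈ O Q) {g : V ≃ₗ[F] V} (hg : g ∈ O Q)
    (hgw : g * w = w * g) : ∃ g₁ ∈ (h.hf.ad h2).Fx, (∀ i, g₁ (f i) = g (f i)) ∧ ∀ j, g₁ (f' j) = f' j := by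
  have h3 : ∀ {k : V ≃ₗ[F] V}, k * w = w * k → ∀ x, k ((h.hf.ad h2).L x) =
      (h.hf.ad h2).L ((h.hf.ad h2).R (k ((h.hf.ad h2).L x))) := by
    intro k hk x
    apply h.fix h2 hw
    have h4 : k (w ((h.hf.ad h2).L x)) = w (k ((h.hf.ad h2).L x)) := LinearEquiv.congr_fun hk _
    rw [← h4, h.w_L h2]
  have h4 : g⁻¹ * w = w * g⁻¹ := by
    have : Commute g w := hgw
    exact this.inv_left.eq
  obtain ⟨k, hk, hkL⟩ := Ad.exists_res (h.hf.ad h2) hg (h3 hgw) (h3 h4)
  refine ⟨(h.hf.ad h2).emb k, ⟨(h.hf.ad h2).emb_mem_O.2 hk, fun x hx => (h.hf.ad h2).emb_fix k hx⟩, fun i => ?_,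
    fun j => ?_⟩
  · have h5 := (h.hf.ad h2).emb_L k (Pi.single i 1)
    rw [hkL, h.hf.L_single h2] at h5
    exact h5
  · apply (h.hf.ad h2).emb_fix
    rw [h.hf.R_eq_zero_iff h2]
    exact fun i => h.orth i j

theorem Adp.ext (h2 : (2 : F) ≠ 0) (h : Adp Q w c c' f f') {g k : V ≃ₗ[F] V} (h1 : ∀ i, g (f i) = k (f i))
    (h3 : ∀ i, g (f' i) = k (f' i)) : g = k := by
  have h4 : k⁻¹ * g = 1 := by
    apply LinearEquiv.ext
    refine fun v => ext_full h2 h.full h.fcard (g := k⁻¹ * g) ?_ v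
    rintro (i | i)
    · show k.symm (g (f i)) = f i
      rw [h1, LinearEquiv.symm_apply_apply]
    · show k.symm (g (f' i)) = f' i
      rw [h3, LinearEquiv.symm_apply_apply]
  exact (inv_mul_eq_one.1 h4).symm

/-- the elements of the first factor preserve the orthogonal complement of the second -/
theorem Adp.Fx_f' (h2 : (2 : F) ≠ 0) (h : Adp Q w c c' f f') {g : V ≃ₗ[F] V} (hg : g ∈ (h.hf.ad h2).Fx) (j) :
    g (f' j) = f' j := by
  apply hg.2
  rw [h.hf.R_eq_zero_iff h2]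
  exact fun i => h.orth i j

theorem Adp.Fx_f (h2 : (2 : F) ≠ 0) (h : Adp Q w c c' f f') {g : V ≃ₗ[F] V} (hg : g ∈ (h.hf'.ad h2).Fx) (i) :
    g (f i) = f i := by
  apply hg.2
  rw [h.hf'.R_eq_zero_iff h2]
  intro j
  rw [polar_comm]
  exact h.orth i j

/-- the two factors commute -/
theorem Adp.comm (h2 : (2 : F) ≠ 0) (h : Adp Q w c c' f f') {g k : V ≃ₗ[F] V} (hg : g ∈ (h.hf.ad h2).Fx)
    (hk : k ∈ (h.hf'.ad h2).Fx) : g * k = k * g := by
  apply h.ext h2
  · intro i
    show g (k (f i)) = k (g (f i))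
    rw [h.Fx_f h2 hk]
    symm
    apply hk.2
    rw [h.hf'.R_eq_zero_iff h2]
    intro j
    have h3 := polar_map hg.1 (f' j) (f i)
    rw [h.Fx_f' h2 hg] at h3
    rw [h3, polar_comm]
    exact h.orth i j
  · intro j
    show g (k (f' j)) = k (g (f' j))
    rw [h.Fx_f' h2 hg]
    apply hg.2
    rw [h.hf.R_eq_zero_iff h2]
    intro i
    have h3 := polar_map hk.1 (f i) (f' j)
    rw [h.Fx_f h2 hk] at h3
    rw [h3]
    exact h.orth i j

/-- the centralizer is the product of the two factors -/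
theorem Adp.decomp (h2 : (2 : F) ≠ 0) (h : Adp Q w c c' f f') (hw : w ∈ O Q) {g : V ≃ₗ[F] V} (hg : g ∈ O Q)
    (hgw : g * w = w * g) : ∃ g₁ ∈ (h.hf.ad h2).Fx, ∃ g₂ ∈ (h.hf'.ad h2).Fx, g = g₁ * g₂ := by
  obtain ⟨g₁, hg₁, e1, e1'⟩ := h.exists_res h2 hw hg hgw
  have hnw : LinearEquiv.neg F * w ∈ O Q := (O Q).mul_mem (Ad.neg_mem_O Q) hw
  have hgnw : g * (LinearEquiv.neg F * w) = LinearEquiv.neg F * w * g := by
    rw [← mul_assoc, neg_comm, mul_assoc, hgw, mul_assoc]
  obtain ⟨g₂, hg₂, e2, e2'⟩ := h.neg.exists_res h2 hnw hg hgnw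
  refine ⟨g₁, hg₁, g₂, hg₂, ?_⟩
  apply h.ext h2
  · intro i
    show g (f i) = g₁ (g₂ (f i))
    rw [e2', e1]
  · intro j
    have h3 : g₁ * g₂ = g₂ * g₁ := h.comm h2 hg₁ hg₂
    rw [h3]
    show g (f' j) = g₂ (g₁ (f' j))
    rw [e1', e2]

/-- **the derived group of the centralizer** -/
theorem Adp.comm_le (h2 : (2 : F) ≠ 0) (hQ : Nondeg Q) (h : Adp Q w c c' f f') (hw : w ∈ O Q) {g k : V ≃ₗ[F] V}
    (hg : g ∈ O Q) (hgw : g * w = w * g) (hk : k ∈ O Q) (hkw : k * w = w * k) :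
    ⁅g, k⁆ ∈ (h.hf.ad h2).B ⊔ (h.hf'.ad h2).B := by
  obtain ⟨g₁, hg₁, g₂, hg₂, rfl⟩ := h.decomp h2 hw hg hgw
  obtain ⟨k₁, hk₁, k₂, hk₂, rfl⟩ := h.decomp h2 hw hk hkw
  rw [commutator_mul_of_comm (h.comm h2 hg₁ hk₂) (h.comm h2 hg₁ hg₂) (h.comm h2 hk₁ hg₂) (h.comm h2 hk₁ hk₂)]
  rw [(h.hf.ad h2).B_eq hQ, (h.hf'.ad h2).B_eq hQ]
  exact Subgroup.mul_mem_sup (Subgroup.commutator_mem_commutator hg₁ hk₁)
    (Subgroup.commutator_mem_commutator hg₂ hk₂)

theorem Adp.B_comm (h2 : (2 : F) ≠ 0) (hQ : Nondeg Q) (h : Adp Q w c c' f f') :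
    ∀ g ∈ (h.hf.ad h2).B, ∀ k ∈ (h.hf'.ad h2).B, g * k = k * g :=
  fun _ hg _ hk => h.comm h2 ((h.hf.ad h2).B_le_Fx hQ hg) ((h.hf'.ad h2).B_le_Fx hQ hk)

end adp

end Cfsg.Agent.CharThree

end

-- merged: Cfsg.Agent.CharThree.Spin
section

/-!
# Sign changes in `Ω(V)`: determinant and spinor norm (helper67)

* `detSpinor_ds` : determinant and spinor sign of a sign change;
* `Adp.even` : an involution `w ∈ Ω(V)`, `w ≠ ±1`, with the adapted frame `f`, `f'`: `dim [V, w]` is even and all the values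
  of `f'` are 1.
-/

set_option autoImplicit false
set_option linter.unusedSectionVars false

namespace Cfsg.Agent.CharThree

open scoped commutatorElement Matrix
open QuadraticMap Module Cfsg.Agent.LieClassical.OrthCore Cfsg.Agent.OddHalf.NI3.Bad.Emb
  Cfsg.Agent.ClassicalGeometry.OddInvolutions Cfsg.Agent.OddHalf.NI3.Bad.QPair Cfsg.Agent.OddHalf.NI3.Bad.Sim
  Cfsg.Agent.OddHalf.NI3.Bad.Frame Cfsg.Agent.ClassicalGeometry.Reflection
  Cfsg.Agent.ClassicalGeometry.SpinorSign Cfsg.Agent.ClassicalGeometry.OmegaIndex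

section diag

variable {F : Type*} [Field F] [Fintype F] {ι : Type} [Fintype ι] [DecidableEq ι] {d : ι → F}

theorem DQ_single (d : ι → F) (i : ι) : DQ d (Pi.single i 1) = d i := by
  rw [DQ_apply, Finset.sum_eq_single i]
  · rw [Pi.single_eq_same]; ring
  · intro j _ hj; rw [Pi.single_eq_of_ne hj]; ring
  · intro h; exact absurd (Finset.mem_univ i) h

theorem ds_single (hd : ∀ i, d i ≠ 0) (h2 : (2 : F) ≠ 0) (i : ι) :
    ds d {i} = reflIso (DQ d) (Pi.single i 1) (by rw [DQ_single]; exact hd i) := by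
  apply isometryGroup_ext
  intro x
  rw [coe_reflIso, reflectionMatrix_mulVec, DQ_single]
  funext j
  rw [ds_mulVec, Pi.sub_apply, Pi.smul_apply, polar_DQ, Finset.sum_eq_single i]
  · by_cases hj : j = i
    · subst hj
      rw [Pi.single_eq_same, sg, if_pos (Finset.mem_singleton_self _), smul_eq_mul]
      have := hd j
      field_simp
      ring
    · rw [Pi.single_eq_of_ne hj, sg, if_neg (by simpa using hj)]
      simp
  · intro k _ hk; rw [Pi.single_eq_of_ne hk]; ring
  · intro h; exact absurd (Finset.mem_univ i) h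

open Classical in
/-- determinant and spinor sign of a sign change -/
theorem detSpinor_ds (hd : ∀ i, d i ≠ 0) (h2 : (2 : F) ≠ 0) (S : Finset ι) :
    detSpinor (⇑(DQ d)) 1 (ds d S) = ∏ i ∈ S, ((-1, if IsSquare (1 * d i) then -1 else 1) : Fˣ × ℤˣ) := by
  induction S using Finset.induction_on with
  | empty => rw [ds_empty, map_one, Finset.prod_empty]
  | insert i S hi ih =>
    rw [Finset.prod_insert hi, ← ih, Finset.insert_eq, ds_mul_of_disjoint _ (by simpa using hi), map_mul,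
      ds_single hd h2, detSpinor_reflIso h2 (DQ d) one_ne_zero]
    congr 2
    rw [DQ_single]

end diag

variable {F V : Type*} [Field F] [Fintype F] [AddCommGroup V] [Module F V] [FiniteDimensional F V]
  {Q : QuadraticForm F V}

/-- coordinates with respect to a full orthogonal family -/
theorem exists_E {ι : Type} [Fintype ι] [DecidableEq ι] {d : ι → F} {f : ι → V} (h2 : (2 : F) ≠ 0) (hf : OF Q d f)
    (hι : Fintype.card ι = finrank F V) :
    ∃ e : (ι → F) ≃ₗ[F] V, (∀ x, e x = ∑ i, x i • f i) ∧ ∀ v, Q (e v) = 1 * DQ d v := by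
  have h1 : Function.Injective (hf.ad h2).L := (hf.ad h2).L_injective
  have h3 : Function.Surjective (hf.ad h2).L :=
    (LinearMap.injective_iff_surjective_of_finrank_eq_finrank (by rw [finrank_fintype_fun_eq_card, hι])).1 h1
  refine ⟨LinearEquiv.ofBijective (hf.ad h2).L ⟨h1, h3⟩, fun x => ?_, fun v => ?_⟩
  · rw [← hf.L_apply h2]
    rfl
  · rw [one_mul]
    exact (hf.ad h2).nm v

/-- a sign change in `Ω(V)` -/
theorem sgn_mem {ι : Type} [Fintype ι] [DecidableEq ι] {d : ι → F} {f : ι → V} (h2 : (2 : F) ≠ 0) (hf : OF Q d f)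
    (hι : Fintype.card ι = finrank F V) (hn : 2 ≤ Fintype.card ι) {w : V ≃ₗ[F] V} (S : Finset ι)
    (hw : ∀ i, w (f i) = sg F S i • f i) :
    w ∈ Om Q ↔ detSpinor (⇑(DQ d)) 1 (ds d S) = 1 := by
  obtain ⟨e, he, heQ⟩ := exists_E h2 hf hι
  have hnd : (polarBilin (DQ d)).Nondegenerate := nondegenerate (hf.nondeg h2)
  have hcj : cje e (LieClassical.OrthFinite.isometryHom (DQ d) (ds d S)) = w := by
    apply LinearEquiv.ext
    intro v
    rw [cje_apply]
    obtain ⟨x, rfl⟩ := e.surjective v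
    rw [e.symm_apply_apply, he, he, map_sum]
    refine Finset.sum_congr rfl fun i _ => ?_
    rw [LieClassical.OrthFinite.isometryHom_apply, ds_mulVec, map_smul, hw, smul_smul, mul_comm]
  have h1 : w ∈ Om Q ↔ ds d S ∈ Cfsg.Omega F (⇑(DQ d)) := by
    rw [← map_Om one_ne_zero heQ, ← hcj]
    unfold Om
    rw [← LieClassical.OrthFinite.map_Omega]
    constructor
    · rintro ⟨u, ⟨g, hg, rfl⟩, hu⟩
      have h3 : LieClassical.OrthFinite.isometryHom (DQ d) g = LieClassical.OrthFinite.isometryHom (DQ d) (ds d S) :=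
        (cje e).injective hu
      rw [← LieClassical.OrthFinite.isometryHom_injective _ h3]
      exact hg
    · intro h
      exact ⟨_, ⟨_, h, rfl⟩, rfl⟩
  rw [h1, mem_Omega_iff h2 (DQ d) hnd hn one_ne_zero, detSpinor_eq_one_iff]

section adp

variable {w : V ≃ₗ[F] V} {a b : ℕ} {c c' : F} {f : Fin (a + 1) → V} {f' : Fin (b + 1) → V}

theorem isSquare_three (hF : Fintype.card F = 3) {x : F} (hx : x ≠ 0) : IsSquare x ↔ x = 1 := by
  constructor
  · rintro ⟨y, rfl⟩
    apply mul_self_eq hF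
    rintro rfl
    exact hx (by ring)
  · rintro rfl; exact IsSquare.one

/-- **the spinor norm of an involution of `Ω(V)`** -/
theorem Adp.even (hF : Fintype.card F = 3) (h : Adp Q w c c' f f') (hw : w ∈ Om Q) :
    Even (b + 1) ∧ c' = 1 := by
  classical
  have h2 := two_ne hF
  have hd0 : ∀ i, Sum.elim (fun i : Fin (a + 1) => if i = 0 then c else 1)
      (fun i : Fin (b + 1) => if i = 0 then c' else 1) i ≠ 0 := h.full.ne
  have hc' : c' ≠ 0 := by
    have := h.hf'.ne 0
    simpa using this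
  have h1 := (sgn_mem h2 h.full h.fcard (by
    rw [Fintype.card_sum, Fintype.card_fin, Fintype.card_fin]; omega) (w := w)
    (Finset.univ.image Sum.inr) (by
      rintro (i | i)
      · show w (f i) = _ • f i
        rw [h.wf, sg, if_neg (by simp), one_smul]
      · show w (f' i) = _ • f' i
        rw [h.wf', sg, if_pos (by simp), neg_smul, one_smul])).1 hw
  rw [detSpinor_ds hd0 h2, Finset.prod_image (fun x _ y _ hxy => Sum.inr_injective hxy), Fin.prod_univ_succ] at h1
  have h3 : ∀ i : Fin b, (Sum.elim (fun i : Fin (a + 1) => if i = 0 then c else 1)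
      (fun i : Fin (b + 1) => if i = 0 then c' else 1) (Sum.inr i.succ)) = 1 := by
    intro i
    simp [Fin.succ_ne_zero]
  have h4 : (Sum.elim (fun i : Fin (a + 1) => if i = 0 then c else 1)
      (fun i : Fin (b + 1) => if i = 0 then c' else 1) (Sum.inr 0)) = c' := by simp
  simp only [h3, h4, one_mul, IsSquare.one, if_true, Finset.prod_const, Finset.card_univ, Fintype.card_fin] at h1
  have h5 : (-1 : Fˣ) * (-1 : Fˣ) ^ b = 1 := by
    have := congrArg Prod.fst h1
    simpa only [_root_.neg_mul, _root_.one_mul, _root_.Prod.pow_mk, _root_.Prod.mk_mul_mk, _root_.ite_mul, _root_.Prod.fst_one] using this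
  have h6 : (if IsSquare c' then (-1 : ℤˣ) else 1) * (-1) ^ b = 1 := by
    have := congrArg Prod.snd h1
    simpa only [_root_.ite_mul, _root_.neg_mul, _root_.one_mul, _root_.Prod.pow_mk, _root_.Prod.mk_mul_mk, _root_.Prod.snd_one] using this
  have hb : Odd b := by
    by_contra hb
    rw [Nat.not_odd_iff_even] at hb
    rw [hb.neg_one_pow, mul_one] at h5
    exact neg_one_ne_one_units h2 h5
  refine ⟨hb.add_one, ?_⟩
  rw [hb.neg_one_pow] at h6
  rw [← isSquare_three hF hc']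
  by_contra hs
  rw [if_neg hs] at h6
  exact absurd h6 (by decide)

end adp

end Cfsg.Agent.CharThree

end

-- merged: Cfsg.Agent.CharThree.Types
section

/-!
# The groups `Ω(V)`, `V` over `F₃` of dimension at most 6 (helper67)

* `solv_three`, `solv_four` : `Ω(V)` is solvable in dimension 3 and in dimension 4 with `-1 ∈ Ω(V)`;
* `quasi` : `Ω(V)` is quasisimple in dimension at least 5 and in dimension 4 with `-1 ∉ Ω(V)`;
* `Tp V` : `Ω(V)` is quasisimple, good (a `C₂`-group) and its order is 360, 25920, 6065280 or 6531840: `tp4`, `tp5`, `tp6`,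
  `tp6c`.
-/

set_option autoImplicit false
set_option linter.unusedSectionVars false

namespace Cfsg.Agent.CharThree

open Cfsg
open QuadraticMap Module Cfsg.Agent.LieClassical.OrthCore Cfsg.Agent.OddHalf.NI3.Bad.Emb
  Cfsg.Agent.ClassicalGeometry.OddInvolutions Cfsg.Agent.OddHalf.NI3.Bad.Sim
  Cfsg.Agent.OddHalf.NI3.Bad.Models Cfsg.Agent.CTwoTab

/-! ### Orders -/

theorem card_psl_two_three (F : Type*) [Field F] [Fintype F] (hF : Fintype.card F = 3) :
    Nat.card (Matrix.ProjectiveSpecialLinearGroup (Fin 2) F) = 12 := by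
  have h := S0243.result (F := F) hF 2 (by norm_num)
  rw [Fin.prod_univ_two] at h
  norm_num only [_root_.Fin.coe_ofNat_eq_mod, _root_.pow_zero, _root_.Nat.add_one_sub_one, _root_.pow_one] at h
  omega

theorem card_psl_two_nine (F : Type*) [Field F] [Fintype F] (hF : Fintype.card F = 9) :
    Nat.card (Matrix.ProjectiveSpecialLinearGroup (Fin 2) F) = 360 := by
  have h := S0243.result (F := F) hF 2 (by norm_num)
  rw [Fin.prod_univ_two] at h
  norm_num only [_root_.Fin.coe_ofNat_eq_mod, _root_.pow_zero, _root_.Nat.add_one_sub_one, _root_.pow_one] at h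
  omega

theorem card_psl_four_three (F : Type*) [Field F] [Fintype F] (hF : Fintype.card F = 3) :
    Nat.card (Matrix.ProjectiveSpecialLinearGroup (Fin 4) F) = 6065280 := by
  have h := S0243.result (F := F) hF 4 (by norm_num)
  rw [Fin.prod_univ_four] at h
  norm_num only [_root_.Fin.coe_ofNat_eq_mod, _root_.pow_zero, _root_.Nat.add_one_sub_one, _root_.pow_one] at h
  omega

theorem card_psp_four_three (F : Type*) [Field F] [Fintype F] (hF : Fintype.card F = 3) :
    Nat.card (Cfsg.PSp 2 F) = 25920 := by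
  have h1 := S0245.result (F := F) (q := 3) hF 2
  have h2 := S0246.result (F := F) (q := 3) hF 2 (by norm_num)
  have h3 := Subgroup.card_eq_card_quotient_mul_card_subgroup (Subgroup.center (Matrix.symplecticGroup (Fin 2) F))
  rw [h1, h2] at h3
  simp only [Finset.prod_range_succ, Finset.prod_range_zero] at h3
  norm_num at h3
  have h4 : Nat.card (Cfsg.PSp 2 F) =
      Nat.card (↥(Matrix.symplecticGroup (Fin 2) F) ⧸ Subgroup.center ↥(Matrix.symplecticGroup (Fin 2) F)) := rfl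
  omega

theorem card_psu_four_three (F : Type*) [Field F] [Fintype F] (hF : Fintype.card F = 9) :
    Nat.card (PSU 4 F 3) = 3265920 := by
  have h := S0280.result (F := F) (q := 3) (by rw [hF]; norm_num) 4 (by norm_num)
  rw [Finset.prod_range_succ, Finset.prod_range_succ, Finset.prod_range_succ, Finset.prod_range_succ,
    Finset.prod_range_zero] at h
  rw [if_pos (by decide), if_neg (by decide), if_pos (by decide), if_neg (by decide)] at h
  norm_num at h
  omega

theorem exists_field (p n : ℕ) [Fact p.Prime] (hn : n ≠ 0) :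
    ∃ (F : Type) (_ : Field F) (_ : Fintype F) (_ : CharP F p), Fintype.card F = p ^ n := by
  let _ : Fintype (GaloisField p n) := Fintype.ofFinite _
  refine ⟨GaloisField p n, inferInstance, inferInstance, inferInstance, ?_⟩
  rw [← Nat.card_eq_fintype_card, GaloisField.card p n hn]

/-! ### Types -/

/-- `K` is quasisimple, good, and its order is one of four numbers -/
structure Tp (K : Type*) [Group K] : Prop where
  qs : IsQuasisimple K
  good : Good K
  card : Nat.card K = 360 ∨ Nat.card K = 25920 ∨ Nat.card K = 6065280 ∨ Nat.card K = 6531840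

theorem Tp.congr {K L : Type*} [Group K] [Group L] (e : K ≃* L) (h : Tp K) : Tp L :=
  ⟨SignalizersComponents.Components.isQuasisimple_of_mulEquiv e h.qs, h.good.congr e,
    by rw [← Nat.card_congr e.toEquiv]; exact h.card⟩

section

variable {F : Type*} [Field F] [Fintype F] {V : Type*} [AddCommGroup V] [Module F V] [FiniteDimensional F V]
  {Q : QuadraticForm F V}

theorem finite_Om : Finite (Om Q) := by
  have hfin : Finite V := Module.finite_of_finite F
  have hfin' : Finite (V ≃ₗ[F] V) := Finite.of_injective (fun g : V ≃ₗ[F] V => (g : V → V)) DFunLike.coe_injective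
  infer_instance

/-- dimension 3 -/
theorem solv_three (hF : Fintype.card F = 3) (hQ : Nondeg Q) (hn : finrank F V = 3) : Group.IsSolvable (Om Q) := by
  obtain ⟨e1⟩ := om_odd hF hQ (m := 1) le_rfl hn
  obtain ⟨e2⟩ := S0298.result (F := F) (by rw [hF]; decide)
  have := finite_Om (Q := Q)
  refine S0144.result 2 3 2 1 Nat.prime_two Nat.prime_three ?_
  rw [Nat.card_congr (e1.trans e2).toEquiv, card_psl_two_three F hF]
  norm_num

/-- dimension 4, `-1 ∈ Ω` -/
theorem solv_four (hF : Fintype.card F = 3) (hQ : Nondeg Q) (hn : finrank F V = 4) (h : _root_.Cfsg.Agent.OddHalf.NI3.Bad.Sim.Neg Q) :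
    Group.IsSolvable (Om Q) := by
  obtain ⟨e1⟩ := om_plus hF hQ (m := 2) (by norm_num) hn (by simp [h])
  obtain ⟨e2⟩ := S0299.result (F := F) (by rw [hF])
  have := finite_Om (Q := Q)
  refine S0144.result 2 3 5 2 Nat.prime_two Nat.prime_three ?_
  rw [Subgroup.card_eq_card_quotient_mul_card_subgroup (Subgroup.center (Om Q)), card_center (two_ne hF) hQ (by omega) h,
    Nat.card_congr (e1.trans e2).toEquiv, Nat.card_prod, card_psl_two_three F hF]
  norm_num

/-- quasisimplicity -/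
theorem quasi {W : Type*} [AddCommGroup W] [Module F W] [FiniteDimensional F W] {q : QuadraticForm F W}
    (hq : Nondeg q) (hn : 5 ≤ finrank F W) : IsQuasisimple ↥(Om q) := by
  have hG := LieClassical.OrthFinite.good_of_finite hq hn
  have h1 : Cfsg.IsQuasisimple ↥(E q) := by
    refine ⟨?_, LieClassical.OrthSimple.good_isSimpleGroup hG⟩
    rw [Group.isPerfect_def, _root_.commutator_def]
    have h3 := hG.E_perfect
    have h4 : (⁅(⊤ : Subgroup ↥(E q)), ⊤⁆ : Subgroup ↥(E q)).map (E q).subtype =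
        (⊤ : Subgroup ↥(E q)).map (E q).subtype := by
      rw [Subgroup.map_commutator, ← MonoidHom.range_eq_map, Subgroup.range_subtype, h3]
    exact Subgroup.map_injective (E q).subtype_injective h4
  rw [← hG.commutator_eq_E] at h1
  exact h1

/-- dimension 4, `-1 ∉ Ω` -/
theorem tp4 (hF : Fintype.card F = 3) (hQ : Nondeg Q) (hn : finrank F V = 4) (h : ¬ _root_.Cfsg.Agent.OddHalf.NI3.Bad.Sim.Neg Q) : Tp (Om Q) := by
  have : Fact (Nat.Prime 3) := ⟨Nat.prime_three⟩
  obtain ⟨K, _, _, _, hK⟩ := exists_field 3 2 (by norm_num)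
  norm_num at hK
  obtain ⟨e⟩ := om4 hF hQ hn h hK
  have hc : Nat.card (Om Q) = 360 := by rw [Nat.card_congr e.toEquiv, card_psl_two_nine _ hK]
  have hz := center_eq_bot hQ (by omega) h
  have hs : IsSimpleGroup (Om Q) := by
    have : IsSimpleGroup (Matrix.ProjectiveSpecialLinearGroup (Fin 2) K) :=
      Matrix.ProjectiveSpecialLinearGroup.rank_two_simple (by rw [Nat.card_eq_fintype_card]; omega)
    exact e.isSimpleGroup
  have hq : Nat.card (Om Q ⧸ Subgroup.center (Om Q)) = 360 := by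
    rw [← hc, hz, Nat.card_congr QuotientGroup.quotientBot.toEquiv]
  refine ⟨⟨?_, ?_⟩, ⟨?_, ?_⟩, Or.inl hc⟩
  · rw [Group.isPerfect_def]
    rcases (inferInstance : (_root_.commutator (Om Q)).Normal).eq_bot_or_eq_top with h1 | h1
    · exfalso
      have h2 : Subgroup.center (Om Q) = ⊤ := by
        rw [← (commutator_eq_bot_iff_center_eq_top (G := Om Q))]
        exact h1
      rw [hz] at h2
      have h3 : Nat.card (Om Q) = 1 := by
        rw [← Subgroup.card_top, ← h2, Subgroup.card_bot]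
      omega
    · exact h1
  · exact ((QuotientGroup.quotientMulEquivOfEq hz).trans QuotientGroup.quotientBot).isSimpleGroup
  · refine isCpSimple_two_congr ((QuotientGroup.quotientMulEquivOfEq hz).trans QuotientGroup.quotientBot).symm ?_
    exact Or.inr (Or.inr (Or.inl ⟨rfl, Or.inl ⟨K, inferInstance, inferInstance, Or.inr hK, ⟨e⟩⟩⟩))
  · exact not_exc_of_card hc 7 (by norm_num) (by norm_num) (by norm_num) (by rw [hq]; norm_num) (by norm_num)
      (by norm_num) (by norm_num)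

end

section

variable {F : Type} [Field F] [Fintype F] {V : Type*} [AddCommGroup V] [Module F V] [FiniteDimensional F V]
  {Q : QuadraticForm F V}

theorem quot_card (hz : Subgroup.center (Om Q) = ⊥) :
    Nat.card (Om Q ⧸ Subgroup.center (Om Q)) = Nat.card (Om Q) := by
  rw [hz, Nat.card_congr QuotientGroup.quotientBot.toEquiv]

/-- dimension 5 -/
theorem tp5 (hF : Fintype.card F = 3) (hQ : Nondeg Q) (hn : finrank F V = 5) : Tp (Om Q) := by
  have : Fact (Nat.Prime 2) := ⟨Nat.prime_two⟩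
  obtain ⟨K, _, _, _, hK⟩ := exists_field 2 2 (by norm_num)
  norm_num at hK
  obtain ⟨e⟩ := om5 hF hQ hn
  obtain ⟨e'⟩ := S0822.result (F := K) (K := F) hK hF
  have hc : Nat.card (Om Q) = 25920 := by rw [Nat.card_congr e.toEquiv, card_psp_four_three _ hF]
  have hz := center_eq_bot hQ (by omega) (not_neg_of_odd (two_ne hF) (by rw [hn]; decide))
  refine ⟨quasi hQ hn.ge, ⟨?_, ?_⟩, Or.inr (Or.inl hc)⟩
  · refine isCpSimple_two_congr ((QuotientGroup.quotientMulEquivOfEq hz).trans QuotientGroup.quotientBot).symm ?_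
    refine Or.inl (Or.inl (Or.inr (Or.inr (Or.inl ⟨K, inferInstance, inferInstance, inferInstance, 4, 2,
      by rw [hK]; norm_num, by norm_num, by norm_num, ⟨e.trans e'.symm⟩⟩))))
  · exact not_exc_of_card hc 29 (by norm_num) (by norm_num) (by norm_num) (by rw [quot_card hz, hc]; norm_num)
      (by norm_num) (by norm_num) (by norm_num)

/-- dimension 6, `-1 ∉ Ω` -/
theorem tp6 (hF : Fintype.card F = 3) (hQ : Nondeg Q) (hn : finrank F V = 6) (h : ¬ _root_.Cfsg.Agent.OddHalf.NI3.Bad.Sim.Neg Q) : Tp (Om Q) := by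
  obtain ⟨e⟩ := om6 hF hQ hn h
  have hc : Nat.card (Om Q) = 6065280 := by rw [Nat.card_congr e.toEquiv, card_psl_four_three _ hF]
  have hz := center_eq_bot hQ (by omega) h
  refine ⟨quasi hQ (by omega), ⟨?_, ?_⟩, Or.inr (Or.inr (Or.inl hc))⟩
  · refine isCpSimple_two_congr ((QuotientGroup.quotientMulEquivOfEq hz).trans QuotientGroup.quotientBot).symm ?_
    exact Or.inr (Or.inr (Or.inl ⟨rfl, Or.inr (Or.inl ⟨F, inferInstance, inferInstance, hF, Or.inr (Or.inl ⟨e⟩)⟩)⟩))
  · exact not_exc_of_card hc 182 (by norm_num) (by norm_num) (by norm_num) (by rw [quot_card hz, hc]; norm_num)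
      (by norm_num) (by norm_num) (by norm_num)

/-- dimension 6, `-1 ∈ Ω` -/
theorem tp6c (hF : Fintype.card F = 3) (hQ : Nondeg Q) (hn : finrank F V = 6) (h : _root_.Cfsg.Agent.OddHalf.NI3.Bad.Sim.Neg Q) : Tp (Om Q) := by
  have : Fact (Nat.Prime 3) := ⟨Nat.prime_three⟩
  obtain ⟨K, _, _, _, hK⟩ := exists_field 3 2 (by norm_num)
  norm_num at hK
  obtain ⟨e⟩ := om6c hF hQ hn h hK
  have hq : Nat.card (Om Q ⧸ Subgroup.center (Om Q)) = 3265920 := by
    rw [Nat.card_congr e.toEquiv, card_psu_four_three _ hK]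
  have hc : Nat.card (Om Q) = 6531840 := by
    rw [Subgroup.card_eq_card_quotient_mul_card_subgroup (Subgroup.center (Om Q)), hq,
      card_center (two_ne hF) hQ (by omega) h]
  refine ⟨quasi hQ (by omega), ⟨?_, ?_⟩, Or.inr (Or.inr (Or.inr hc))⟩
  · exact Or.inr (Or.inr (Or.inl ⟨rfl, Or.inr (Or.inr (Or.inl ⟨K, inferInstance, inferInstance, hK,
      ⟨e⟩⟩))⟩))
  · exact not_exc_of_card hc 186 (by norm_num) (by norm_num) (by norm_num) (by rw [hq]; norm_num)
      (by norm_num) (by norm_num) (by norm_num)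

end

end Cfsg.Agent.CharThree

end

-- merged: Cfsg.Agent.CharThree.Cen
section

/-!
# Centralizers of involutions in `Ω(V)/Z`, `V` over `F₃`: the frame (helper67)

`Rs x` : either the only perfect subgroup of `C(x)` is 1, or there is a quasisimple `C₂`-group `N ≤ C(x)` (of one of four
orders) which contains every perfect subgroup of `C(x)`.
* `rs_of` : `Rs w` from two commuting subgroups `B₁`, `B₂`, `B₂` solvable;
* `Rs.at` : `Rs x` and `O(C(x)) = 1` give the condition at `x`;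
* `sep_of` : the group `SD` of all sign changes in `Ω(V)` separates an orthogonal basis with all values but one equal;
* `At` for the involutions which lift to involutions: `caseA`.
-/

set_option autoImplicit false
set_option linter.unusedSectionVars false

namespace Cfsg.Agent.CharThree

open scoped commutatorElement
open QuadraticMap Module Cfsg.Agent.LieClassical.OrthCore Cfsg.Agent.OddHalf.NI3.Bad.Emb
  Cfsg.Agent.ClassicalGeometry.OddInvolutions Cfsg.Agent.OddHalf.NI3.Bad.QPair Cfsg.Agent.OddHalf.NI3.Bad.Sim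
  Cfsg.Agent.OddHalf.NI3.Bad.Frame Cfsg.Agent.CTwoTab

/-! ### Perfect subgroups of the centralizer -/

/-- all the perfect subgroups of `C(x)` lie in one quasisimple `C₂`-group, or are trivial -/
def Rs {G : Type*} [Group G] (x : G) : Prop :=
  (∀ P ≤ Subgroup.centralizer ({x} : Set G), ⁅P, P⁆ = P → P = ⊥) ∨
    ∃ N ≤ Subgroup.centralizer ({x} : Set G), Tp ↥N ∧
      ∀ P ≤ Subgroup.centralizer ({x} : Set G), ⁅P, P⁆ = P → P ≤ N

theorem Rs.at {G : Type*} [Group G] [Finite G] {x : G} (h : Rs x) (hb : centralizerPPrimeCore 2 x = ⊥) : At G x := by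
  rcases h with h | ⟨N, hN, hT, hP⟩
  · refine ⟨hb, fun K hK => ?_⟩
    exfalso
    have h1 := h K hK.1 (isPerfect_of_comp hK)
    have hq' : Cfsg.IsQuasisimple ↥K := SignalizersComponents.Components.isQuasisimple_of_mulEquiv
      (Subgroup.subgroupOfEquivOfLe hK.1) hK.2.2
    have := SignalizersComponents.Components.quasisimple_nontrivial hq'
    rw [h1] at this
    exact not_nontrivial _ this
  · exact At.of_comp hb hT.qs hN hP hT.good

/-- a component of `C(x)` has one of four orders -/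
theorem Rs.card {G : Type*} [Group G] [Finite G] {x : G} (h : Rs x) {K : Subgroup G}
    (hK : IsComponentOf K (Subgroup.centralizer ({x} : Set G))) :
    Nat.card K = 360 ∨ Nat.card K = 25920 ∨ Nat.card K = 6065280 ∨ Nat.card K = 6531840 := by
  rcases h with h | ⟨N, hN, hT, hP⟩
  · exfalso
    have h1 := h K hK.1 (isPerfect_of_comp hK)
    have hq' : Cfsg.IsQuasisimple ↥K := SignalizersComponents.Components.isQuasisimple_of_mulEquiv
      (Subgroup.subgroupOfEquivOfLe hK.1) hK.2.2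
    have := SignalizersComponents.Components.quasisimple_nontrivial hq'
    rw [h1] at this
    exact not_nontrivial _ this
  · rw [comp_eq hT.qs hN hP hK]
    exact hT.card

variable {F V : Type*} [Field F] [Fintype F] [AddCommGroup V] [Module F V] [FiniteDimensional F V]
  {Q : QuadraticForm F V}

/-- the image of a subgroup of `Ω(V)` in `Ω(V)/Z` -/
def im (B : Subgroup (V ≃ₗ[F] V)) : Subgroup (Om Q ⧸ Subgroup.center (Om Q)) :=
  (B.subgroupOf (Om Q)).map (QuotientGroup.mk' (Subgroup.center (Om Q)))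

theorem im_equiv (hF : Fintype.card F = 3) (hQ : Nondeg Q) (hn : 3 ≤ finrank F V) {B : Subgroup (V ≃ₗ[F] V)}
    (hB : B ≤ Om Q) (hneg : (LinearEquiv.neg F : V ≃ₗ[F] V) ∉ B) : Nonempty (↥B ≃* ↥(im (Q := Q) B)) := by
  let φ : ↥B →* Om Q ⧸ Subgroup.center (Om Q) :=
    (QuotientGroup.mk' (Subgroup.center (Om Q))).comp (Subgroup.inclusion hB)
  have hφ : Function.Injective φ := by
    rw [injective_iff_map_eq_one]
    intro b hb
    have h1 : Subgroup.inclusion hB b ∈ Subgroup.center (Om Q) := (QuotientGroup.eq_one_iff _).1 hb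
    rcases center_cases hF hQ hn h1 with h | h
    · exact Subtype.ext (congrArg (fun z : Om Q => (z : V ≃ₗ[F] V)) h)
    · exfalso
      apply hneg
      rw [← h]
      exact b.2
  have hr : φ.range = im (Q := Q) B := by
    ext x
    constructor
    · rintro ⟨b, rfl⟩
      exact ⟨Subgroup.inclusion hB b, b.2, rfl⟩
    · rintro ⟨g, hg, rfl⟩
      exact ⟨⟨g, hg⟩, rfl⟩
  exact ⟨(MonoidHom.ofInjective hφ).trans (MulEquiv.subgroupCongr hr)⟩

/-- the image is solvable -/
theorem im_solvable {B : Subgroup (V ≃ₗ[F] V)} (h : Group.IsSolvable ↥B) : Group.IsSolvable ↥(im (Q := Q) B) := by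
  have h1 : Group.IsSolvable ↥(B.subgroupOf (Om Q)) := by
    let ψ : ↥(B.subgroupOf (Om Q)) →* ↥B :=
      { toFun := fun x => ⟨((x : Om Q) : V ≃ₗ[F] V), Subgroup.mem_subgroupOf.1 x.2⟩
        map_one' := rfl
        map_mul' := fun _ _ => rfl }
    refine Group.isSolvable_of_isSolvable_injective (f := ψ) ?_
    intro x y hxy
    exact Subtype.ext (Subtype.ext (congrArg (fun z : ↥B => (z : V ≃ₗ[F] V)) hxy))
  exact Group.isSolvable_of_surjective
    ((QuotientGroup.mk' (Subgroup.center (Om Q))).subgroupMap_surjective (B.subgroupOf (Om Q)))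

/-- **the frame** -/
theorem rs_of (hF : Fintype.card F = 3) (hQ : Nondeg Q) (hn : 3 ≤ finrank F V) {w : Om Q}
    {B₁ B₂ : Subgroup (V ≃ₗ[F] V)} (hB₁ : B₁ ≤ Om Q) (hcomm : ∀ g ∈ B₁, ∀ k ∈ B₂, g * k = k * g)
    (hle : ∀ g ∈ Om Q, g * (w : V ≃ₗ[F] V) = w * g → ∀ k ∈ Om Q, k * (w : V ≃ₗ[F] V) = w * k → ⁅g, k⁆ ∈ B₁ ⊔ B₂)
    (hB₂ : B₂ ≤ Om Q) (h₂ : Group.IsSolvable ↥B₂) (hw : ∀ g ∈ B₁, g * (w : V ≃ₗ[F] V) = w * g)
    (hneg : (LinearEquiv.neg F : V ≃ₗ[F] V) ∉ B₁) (hT : Tp ↥B₁ ∨ Group.IsSolvable ↥B₁) :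
    Rs (w : Om Q ⧸ Subgroup.center (Om Q)) := by
  have hP : ∀ P ≤ Subgroup.centralizer ({(w : Om Q ⧸ Subgroup.center (Om Q))} : Set (Om Q ⧸ Subgroup.center (Om Q))),
      ⁅P, P⁆ = P → P ≤ im B₁ := by
    intro P hPC hPP
    have h1 := perf_le (Z := Subgroup.center (Om Q)) le_rfl hPC hPP
    refine perf_le_left (B := im B₁) (D := im B₂) ?_ (im_solvable h₂) ?_ hPP
    · rintro _ ⟨b, hb, rfl⟩ _ ⟨d, hd, rfl⟩
      rw [← map_mul, ← map_mul]
      congr 1
      exact Subtype.ext (hcomm _ hb _ hd)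
    · refine h1.trans ?_
      rw [Subgroup.map_le_iff_le_comap, Subgroup.commutator_le]
      intro g hg k hk
      rw [Subgroup.mem_centralizer_singleton_iff] at hg hk
      have h2 := hle g g.2 (congrArg Subtype.val hg) k k.2 (congrArg Subtype.val hk)
      obtain ⟨b, hb, d, hd, hbd⟩ := (mem_sup_comm hcomm).1 h2
      have h3 : ⁅g, k⁆ = (⟨b, hB₁ hb⟩ : Om Q) * ⟨d, hB₂ hd⟩ := Subtype.ext hbd
      rw [Subgroup.mem_comap, h3, map_mul]
      exact Subgroup.mul_mem_sup ⟨⟨b, hB₁ hb⟩, hb, rfl⟩ ⟨⟨d, hB₂ hd⟩, hd, rfl⟩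
  rcases hT with hT | hT
  · right
    obtain ⟨e⟩ := im_equiv hF hQ hn hB₁ hneg
    refine ⟨im B₁, ?_, hT.congr e, hP⟩
    rintro _ ⟨g, hg, rfl⟩
    rw [Subgroup.mem_centralizer_singleton_iff]
    show QuotientGroup.mk' (Subgroup.center (Om Q)) g * QuotientGroup.mk' (Subgroup.center (Om Q)) w =
      QuotientGroup.mk' (Subgroup.center (Om Q)) w * QuotientGroup.mk' (Subgroup.center (Om Q)) g
    rw [← map_mul, ← map_mul]
    congr 1
    exact Subtype.ext (hw _ hg)
  · left
    intro P hPC hPP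
    have h1 := hP P hPC hPP
    have h2 := im_solvable (Q := Q) hT
    exact perf_solvable (Group.isSolvable_of_isSolvable_injective (f := Subgroup.inclusion h1)
      (Subgroup.inclusion_injective h1)) hPP

/-! ### Solvable factors -/

section fam

variable {ι κ : Type} [Fintype ι] [DecidableEq ι] [Fintype κ] [DecidableEq κ] {d : ι → F} {f : ι → V} {e : κ → F}
  {g : κ → V}

theorem B_solv (h2 : (2 : F) ≠ 0) (hf : OF Q d f) (h : Group.IsSolvable (Om (DQ d))) :
    Group.IsSolvable ↥(hf.ad h2).B :=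
  Group.isSolvable_of_isSolvable_injective (f := (hf.ad h2).BEquiv.symm.toMonoidHom)
    (hf.ad h2).BEquiv.symm.injective

theorem B_tp (h2 : (2 : F) ≠ 0) (hf : OF Q d f) (h : Tp (Om (DQ d))) : Tp ↥(hf.ad h2).B := h.congr (hf.ad h2).BEquiv

/-- a family of at most three members of a full family -/
theorem solv_small (hF : Fintype.card F = 3) (hQ : Nondeg Q) (hf : OF Q d f) (hι : 3 ≤ Fintype.card ι)
    (hg : OF Q e g) {s : κ → ι} (hs : ∀ k, g k = f (s k)) (hκ : Fintype.card κ ≤ 3) :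
    Group.IsSolvable ↥(hg.ad (two_ne hF)).B := by
  have h2 := two_ne hF
  obtain ⟨T, hT, hTc⟩ := Finset.exists_superset_card_eq (s := Finset.univ.image s) (n := 3)
    (Finset.card_image_le.trans (by rwa [Finset.card_univ])) hι
  have hT' := hf.comp (Subtype.val : ↥T → ι) Subtype.val_injective
  have h1 : (hg.ad h2).B ≤ (hT'.ad h2).B := by
    refine Ad.B_mono _ (hT'.ad h2) hQ ?_
    intro x hx
    rw [OF.R_eq_zero_iff] at hx ⊢
    intro k
    have := hx ⟨s k, hT (Finset.mem_image_of_mem s (Finset.mem_univ k))⟩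
    rw [hs]
    exact this
  have h3 : Group.IsSolvable ↥(hT'.ad h2).B := by
    apply B_solv h2 hT'
    apply solv_three hF (hT'.nondeg h2)
    rw [finrank_fintype_fun_eq_card, Fintype.card_coe, hTc]
  exact Group.isSolvable_of_isSolvable_injective (f := Subgroup.inclusion h1) (Subgroup.inclusion_injective h1)

/-- four members with equal values 1 -/
theorem solv_four_one (hF : Fintype.card F = 3) (hf : OF Q d f) (hι : Fintype.card ι = 4) (h1 : ∀ i, d i = 1) :
    Group.IsSolvable ↥(hf.ad (two_ne hF)).B := by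
  apply B_solv (two_ne hF) hf
  apply solv_four hF (hf.nondeg (two_ne hF)) (by rw [finrank_fintype_fun_eq_card, hι])
  exact neg_mem_commutator d (fun i j => by rw [h1, h1]) (n := 2) hι

end fam

/-! ### Sign changes in `Ω(V)` -/

section sgn

variable {ι : Type} [Fintype ι] [DecidableEq ι] {d : ι → F} {f : ι → V}

theorem Sgn.mul {s t : V ≃ₗ[F] V} (hs : Sgn f s) (ht : Sgn f t) : Sgn f (s * t) := by
  intro i
  show s (t (f i)) = _ ∨ s (t (f i)) = _
  rcases hs i with h | h <;> rcases ht i with h' | h' <;> simp only [h, h', _root_.true_or, _root_.map_neg, _root_.or_true, _root_.neg_neg]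

theorem Sgn.inv {t : V ≃ₗ[F] V} (ht : Sgn f t) : Sgn f t⁻¹ := by
  intro i
  show t.symm (f i) = _ ∨ t.symm (f i) = _
  rcases ht i with h | h
  · left; rw [LinearEquiv.symm_apply_eq, h]
  · right; rw [LinearEquiv.symm_apply_eq, map_neg, h, neg_neg]

theorem Sgn.one : Sgn f (1 : V ≃ₗ[F] V) := fun _ => Or.inl rfl

/-- the sign changes in `Ω(V)` -/
def SD (Q : QuadraticForm F V) (f : ι → V) : Subgroup (Om Q) where
  carrier := {t | Sgn f (t : V ≃ₗ[F] V)}
  mul_mem' ha hb := Sgn.mul ha hb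
  one_mem' := Sgn.one
  inv_mem' ha := Sgn.inv ha

theorem mem_SD {t : Om Q} : t ∈ SD Q f ↔ Sgn f (t : V ≃ₗ[F] V) := Iff.rfl

theorem sg2_other (h2 : (2 : F) ≠ 0) (hf : OF Q d f) {i j k : ι} (hij : i ≠ j) (hki : k ≠ i) (hkj : k ≠ j) :
    sg2 h2 hf hij (f k) = f k := by
  rw [sg2_iff]
  exact ⟨hf.orth i k (Ne.symm hki), hf.orth j k (Ne.symm hkj)⟩

theorem sgn_sg2 (h2 : (2 : F) ≠ 0) (hf : OF Q d f) {i j : ι} (hij : i ≠ j) : Sgn f (sg2 h2 hf hij) := by
  intro k
  by_cases hi : k = i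
  · right; rw [hi]; exact sg2_left _ _ _
  · by_cases hj : k = j
    · right; rw [hj]; exact sg2_right _ _ _
    · left; exact sg2_other h2 hf hij hi hj

theorem Sgn.comm (h2 : (2 : F) ≠ 0) (hf : OF Q d f) (hc : Fintype.card ι = finrank F V) {s t : V ≃ₗ[F] V}
    (hs : Sgn f s) (ht : Sgn f t) : s * t = t * s := by
  have h4 : (t * s)⁻¹ * (s * t) = 1 := by
    apply LinearEquiv.ext
    refine fun v => ext_full h2 hf hc (g := (t * s)⁻¹ * (s * t)) ?_ v
    intro i
    show (t * s).symm (s (t (f i))) = f i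
    rw [LinearEquiv.symm_apply_eq]
    show s (t (f i)) = t (s (f i))
    rcases hs i with h | h <;> rcases ht i with h' | h' <;> simp only [h, h', _root_.map_neg, _root_.neg_neg]
  exact (inv_mul_eq_one.1 h4).symm

/-- `SD` separates -/
theorem sep_of (hF : Fintype.card F = 3) (hf : OF Q d f) (i₀ : ι) (h1 : ∀ i, i ≠ i₀ → d i = 1)
    (hι : 4 ≤ Fintype.card ι) : Sep f ((SD Q f).map (Om Q).subtype) := by
  have h2 := two_ne hF
  have key : ∀ i j : ι, i ≠ j → i ≠ i₀ → ∃ t ∈ (SD Q f).map (Om Q).subtype, ¬ Same f t i j := by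
    intro i j hij hi
    obtain ⟨k, -, hk⟩ := Finset.exists_mem_notMem_of_card_lt_card (s := ({i, j, i₀} : Finset ι))
      (t := Finset.univ) (by
        rw [Finset.card_univ]
        exact lt_of_le_of_lt Finset.card_le_three (by omega))
    simp only [Finset.mem_insert, Finset.mem_singleton, not_or] at hk
    have hik : i ≠ k := Ne.symm hk.1
    refine ⟨sg2 h2 hf hik, ⟨⟨sg2 h2 hf hik, sg2_mem_Om h2 hf hik (by
      rw [h1 _ hi, h1 _ hk.2.2])⟩, sgn_sg2 h2 hf hik, rfl⟩, ?_⟩
    unfold Same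
    rw [sg2_left, sg2_other h2 hf _ (Ne.symm hij) (Ne.symm hk.2.1)]
    intro h
    exact ne_neg hF (OF_ne_zero hf i) (h.2 rfl).symm
  intro i j hij
  by_cases hi : i = i₀
  · obtain ⟨t, ht, h⟩ := key j i (Ne.symm hij) (fun h => hij (hi.trans h.symm))
    exact ⟨t, ht, fun h' => h h'.symm⟩
  · exact key i j hij hi

end sgn

end Cfsg.Agent.CharThree

end

-- merged: Cfsg.Agent.CharThree.CaseA
section

/-!
# Involutions of `Ω(V)/Z` which lift to involutions, `V` over `F₃`, `dim V = 7, 8` (helper67)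

`caseA_rs`, `caseA_bal` : `w ∈ Ω(V)`, `w² = 1`, `w ≠ ±1`.
-/

set_option autoImplicit false
set_option linter.unusedSectionVars false

namespace Cfsg.Agent.CharThree

open scoped commutatorElement
open QuadraticMap Module Cfsg.Agent.LieClassical.OrthCore Cfsg.Agent.OddHalf.NI3.Bad.Emb
  Cfsg.Agent.ClassicalGeometry.OddInvolutions Cfsg.Agent.OddHalf.NI3.Bad.QPair Cfsg.Agent.OddHalf.NI3.Bad.Sim
  Cfsg.Agent.OddHalf.NI3.Bad.Frame Cfsg.Agent.CTwoTab

section

variable {F : Type} [Field F] [Fintype F] {V : Type*} [AddCommGroup V] [Module F V] [FiniteDimensional F V]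
  {Q : QuadraticForm F V}

/-- families of 4, 5 or 6 members -/
theorem fam_tp {ι : Type} [Fintype ι] [DecidableEq ι] {d : ι → F} {f : ι → V} (hF : Fintype.card F = 3)
    (hf : OF Q d f) (hι : Fintype.card ι = 4 ∨ Fintype.card ι = 5 ∨ Fintype.card ι = 6) :
    Tp ↥(hf.ad (two_ne hF)).B ∨ Group.IsSolvable ↥(hf.ad (two_ne hF)).B := by
  have h2 := two_ne hF
  have hnd := hf.nondeg h2
  have hr : finrank F (ι → F) = Fintype.card ι := finrank_fintype_fun_eq_card F
  rcases hι with h | h | h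
  · by_cases hN : _root_.Cfsg.Agent.OddHalf.NI3.Bad.Sim.Neg (DQ d)
    · right; exact B_solv h2 hf (solv_four hF hnd (by rw [hr, h]) hN)
    · left; exact B_tp h2 hf (tp4 hF hnd (by rw [hr, h]) hN)
  · left; exact B_tp h2 hf (tp5 hF hnd (by rw [hr, h]))
  · left
    by_cases hN : _root_.Cfsg.Agent.OddHalf.NI3.Bad.Sim.Neg (DQ d)
    · exact B_tp h2 hf (tp6c hF hnd (by rw [hr, h]) hN)
    · exact B_tp h2 hf (tp6 hF hnd (by rw [hr, h]) hN)

end

variable {F V : Type*} [Field F] [Fintype F] [AddCommGroup V] [Module F V] [FiniteDimensional F V]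
  {Q : QuadraticForm F V}

section adp

variable {w : V ≃ₗ[F] V} {a b : ℕ} {c c' : F} {f : Fin (a + 1) → V} {f' : Fin (b + 1) → V}

theorem Adp.w_mem (h2 : (2 : F) ≠ 0) (h : Adp Q w c c' f f') (hw : w ∈ O Q) : w ∈ (h.hf'.ad h2).Fx := by
  refine ⟨hw, fun x hx => ?_⟩
  rw [OF.R_eq_zero_iff] at hx
  rw [← sub_eq_zero]
  apply h.zero h2
  · intro i
    have h3 := polar_map hw (f i) x
    rw [h.wf] at h3
    rw [polar_sub_right, h3, sub_self]
  · intro j
    have h3 := polar_map hw (f' j) x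
    rw [h.wf', polar_neg_left, hx, neg_eq_zero] at h3
    rw [polar_sub_right, h3, hx, sub_self]

theorem Adp.comm_w (h2 : (2 : F) ≠ 0) (h : Adp Q w c c' f f') (hw : w ∈ O Q) {g : V ≃ₗ[F] V}
    (hg : g ∈ (h.hf.ad h2).Fx) : g * w = w * g :=
  h.comm h2 hg (h.w_mem h2 hw)

theorem Adp.comm_w' (h2 : (2 : F) ≠ 0) (h : Adp Q w c c' f f') (hw : w ∈ O Q) {g : V ≃ₗ[F] V}
    (hg : g ∈ (h.hf'.ad h2).Fx) : g * w = w * g := by
  have hnw : LinearEquiv.neg F * w ∈ O Q := (O Q).mul_mem (Ad.neg_mem_O Q) hw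
  have h3 := h.neg.comm_w h2 hnw (g := g) hg
  rw [← mul_assoc, neg_comm, mul_assoc, mul_assoc] at h3
  exact mul_left_cancel h3

theorem Adp.neg_notMem (hF : Fintype.card F = 3) (hQ : Nondeg Q) (h : Adp Q w c c' f f') :
    (LinearEquiv.neg F : V ≃ₗ[F] V) ∉ (h.hf.ad (two_ne hF)).B := by
  intro hN
  have h3 := h.Fx_f' (two_ne hF) ((h.hf.ad (two_ne hF)).B_le_Fx hQ hN) 0
  exact ne_neg hF (OF_ne_zero h.hf' 0) h3.symm

theorem Adp.sgn (h : Adp Q w c c' f f') : Sgn (Sum.elim f f') w := by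
  rintro (i | i)
  · left; exact h.wf i
  · right; exact h.wf' i

end adp

/-- **`O(C(w)) = 1`** -/
theorem caseA_bal (hF : Fintype.card F = 3) (hQ : Nondeg Q) (hn : 4 ≤ finrank F V) {w : Om Q}
    (hw2 : w * w = 1) (h1 : w ≠ 1) (h1' : (w : V ≃ₗ[F] V) ≠ LinearEquiv.neg F) :
    centralizerPPrimeCore 2 (w : Om Q ⧸ Subgroup.center (Om Q)) = ⊥ := by
  have hwO : (w : V ≃ₗ[F] V) ∈ O Q := Subgroup.commutator_le_self _ w.2
  obtain ⟨a, b, c, c', f, f', h⟩ := exists_adp hF hQ hwO (congrArg Subtype.val hw2)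
    (fun h => h1 (Subtype.ext h)) h1'
  obtain ⟨-, hc'⟩ := h.even hF w.2
  refine core_bot hF hQ (by omega) h.full h.fcard (SD Q (Sum.elim f f')) (fun t ht => ht) ?_ ?_
  · refine sep_of hF h.full (Sum.inl 0) ?_ (by rw [h.fcard]; exact hn)
    rintro (i | i) hi
    · have : i ≠ 0 := fun h => hi (by rw [h])
      simp [this]
    · simp [hc']
  · intro t ht
    rw [← QuotientGroup.mk_mul, ← QuotientGroup.mk_mul]
    congr 1
    exact Subtype.ext (Sgn.comm (two_ne hF) h.full h.fcard (mem_SD.1 ht) h.sgn)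

end Cfsg.Agent.CharThree

namespace Cfsg.Agent.CharThree

open scoped commutatorElement
open QuadraticMap Module Cfsg.Agent.LieClassical.OrthCore Cfsg.Agent.OddHalf.NI3.Bad.Emb
  Cfsg.Agent.ClassicalGeometry.OddInvolutions Cfsg.Agent.OddHalf.NI3.Bad.QPair Cfsg.Agent.OddHalf.NI3.Bad.Sim
  Cfsg.Agent.OddHalf.NI3.Bad.Frame Cfsg.Agent.CTwoTab

variable {F : Type} [Field F] [Fintype F] {V : Type*} [AddCommGroup V] [Module F V] [FiniteDimensional F V]
  {Q : QuadraticForm F V}

theorem adp_rs (hF : Fintype.card F = 3) (hQ : Nondeg Q) (hn : finrank F V = 7 ∨ finrank F V = 8) {w : Om Q}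
    {a b : ℕ} {c c' : F} {f : Fin (a + 1) → V} {f' : Fin (b + 1) → V} (h : Adp Q (w : V ≃ₗ[F] V) c c' f f') :
    Rs (w : Om Q ⧸ Subgroup.center (Om Q)) := by
  have h2 := two_ne hF
  have hwO : (w : V ≃ₗ[F] V) ∈ O Q := Subgroup.commutator_le_self _ w.2
  obtain ⟨hev, hc'⟩ := h.even hF w.2
  have hcard := h.card
  have hfc := h.fcard
  have h3 : 3 ≤ Fintype.card (Fin (a + 1) ⊕ Fin (b + 1)) := by rw [hfc]; omega
  have hd' : ∀ i : Fin (b + 1), (if i = 0 then c' else 1) = 1 := by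
    intro i; rw [hc']; split_ifs <;> rfl
  -- small factors
  have hs : a + 1 ≤ 3 → Group.IsSolvable ↥(h.hf.ad h2).B := fun ha =>
    solv_small hF hQ h.full h3 h.hf (s := Sum.inl) (fun k => rfl) (by rw [Fintype.card_fin]; exact ha)
  have hs' : b + 1 ≤ 3 → Group.IsSolvable ↥(h.hf'.ad h2).B := fun hb =>
    solv_small hF hQ h.full h3 h.hf' (s := Sum.inr) (fun k => rfl) (by rw [Fintype.card_fin]; exact hb)
  have hBB : ∀ g ∈ (h.hf.ad h2).B, ∀ k ∈ (h.hf'.ad h2).B, g * k = k * g := h.B_comm h2 hQ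
  have hle : ∀ g ∈ Om Q, g * (w : V ≃ₗ[F] V) = w * g → ∀ k ∈ Om Q, k * (w : V ≃ₗ[F] V) = w * k →
      ⁅g, k⁆ ∈ (h.hf.ad h2).B ⊔ (h.hf'.ad h2).B := fun g hg hgw k hk hkw =>
    h.comm_le h2 hQ hwO (Subgroup.commutator_le_self _ hg) hgw (Subgroup.commutator_le_self _ hk) hkw
  obtain ⟨m, hm⟩ := hev
  have hb : b + 1 = 2 ∨ b + 1 = 4 ∨ b + 1 = 6 := by omega
  have first : Group.IsSolvable ↥(h.hf'.ad h2).B → (Tp ↥(h.hf.ad h2).B ∨ Group.IsSolvable ↥(h.hf.ad h2).B) →
      Rs (w : Om Q ⧸ Subgroup.center (Om Q)) := fun hS hT =>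
    rs_of hF hQ (by omega) (h.hf.ad h2).B_le hBB hle (h.hf'.ad h2).B_le hS
      (fun g hg => h.comm_w h2 hwO ((h.hf.ad h2).B_le_Fx hQ hg)) (h.neg_notMem hF hQ) hT
  rcases hb with hb | hb | hb
  · refine first (hs' (by omega)) (fam_tp hF h.hf ?_)
    rw [Fintype.card_fin]; (clear * - hn hcard hb; omega)
  · have hS : Group.IsSolvable ↥(h.hf'.ad h2).B := solv_four_one hF h.hf' (by rw [Fintype.card_fin, hb]) hd'
    rcases hn with hn | hn
    · exact first hS (Or.inr (hs (by omega)))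
    · refine first hS (fam_tp hF h.hf ?_)
      rw [Fintype.card_fin]; omega
  · refine rs_of hF hQ (by omega) (B₁ := (h.hf'.ad h2).B) (B₂ := (h.hf.ad h2).B) (h.hf'.ad h2).B_le
      (fun g hg k hk => (hBB k hk g hg).symm) (fun g hg hgw k hk hkw => ?_) (h.hf.ad h2).B_le (hs (by omega))
      (fun g hg => h.comm_w' h2 hwO ((h.hf'.ad h2).B_le_Fx hQ hg)) (h.neg.neg_notMem hF hQ) (fam_tp hF h.hf' ?_)
    · rw [sup_comm]
      exact hle g hg hgw k hk hkw
    · rw [Fintype.card_fin]; omega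

/-- **the perfect subgroups of `C(w)`** -/
theorem caseA_rs (hF : Fintype.card F = 3) (hQ : Nondeg Q) (hn : finrank F V = 7 ∨ finrank F V = 8) {w : Om Q}
    (hw2 : w * w = 1) (h1 : w ≠ 1) (h1' : (w : V ≃ₗ[F] V) ≠ LinearEquiv.neg F) :
    Rs (w : Om Q ⧸ Subgroup.center (Om Q)) := by
  have hwO : (w : V ≃ₗ[F] V) ∈ O Q := Subgroup.commutator_le_self _ w.2
  obtain ⟨a, b, c, c', f, f', h⟩ := exists_adp hF hQ hwO (congrArg Subtype.val hw2)
    (fun h => h1 (Subtype.ext h)) h1'
  exact adp_rs hF hQ hn h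

end Cfsg.Agent.CharThree

end

-- merged: Cfsg.Agent.CharThree.CaseB
section

/-!
# Involutions of `Ω(V)/Z` which lift to elements of order 4, `V` over `F₃`, `dim V = 8` (helper67)

`w ∈ Ω(V)`, `w² = -1`: `C_{O(V)}(w) ≃ GU₄(3)`.
* `caseB_rs` : the perfect subgroups of `C(w)` lie in the image of `SU₄(3)`, a `C₂`-group of order 6531840;
* `caseB_bal` : `O(C(w)) = 1`.
-/

set_option autoImplicit false
set_option linter.unusedSectionVars false

namespace Cfsg.Agent.CharThree

open scoped commutatorElement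
open QuadraticMap Module Cfsg Cfsg.Agent.LieClassical.OrthCore Cfsg.Agent.OddHalf.NI3.Bad.Emb
  Cfsg.Agent.ClassicalGeometry.OddInvolutions Cfsg.Agent.OddHalf.NI3.Bad.QPair Cfsg.Agent.OddHalf.NI3.Bad.Sim
  Cfsg.Agent.OddHalf.NI3.Bad.Frame Cfsg.Agent.CTwoTab Cfsg.Agent.OddHalf.NI3.Bad.EightUnit
  Cfsg.Agent.LieClassical.HermSiegel

/-! ### Quotients of quasisimple groups -/

/-- the central quotient does not change under central quotients -/
theorem center_quot {A N : Type*} [Group A] [Group N] (hA : IsQuasisimple A) (φ : A →* N)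
    (hφ : Function.Surjective φ) (hk : φ.ker ≤ Subgroup.center A) :
    Nonempty (N ⧸ Subgroup.center N ≃* A ⧸ Subgroup.center A) := by
  have hperf := hA.1
  have hc : Subgroup.center (A ⧸ Subgroup.center A) = ⊥ := Group.IsPerfect.center_quotient_center_eq_bot A
  let ψ : N →* A ⧸ Subgroup.center A :=
    (QuotientGroup.map φ.ker (Subgroup.center A) (MonoidHom.id A) hk).comp
      (QuotientGroup.quotientKerEquivOfSurjective φ hφ).symm.toMonoidHom
  have hψ : ∀ a, ψ (φ a) = (a : A ⧸ Subgroup.center A) := by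
    intro a
    have h1 : (QuotientGroup.quotientKerEquivOfSurjective φ hφ).symm (φ a) = (a : A ⧸ φ.ker) := by
      rw [MulEquiv.symm_apply_eq]
      rfl
    show QuotientGroup.map φ.ker (Subgroup.center A) (MonoidHom.id A) hk
      ((QuotientGroup.quotientKerEquivOfSurjective φ hφ).symm (φ a)) = _
    rw [h1]
    rfl
  have hs : Function.Surjective ψ := by
    intro x
    obtain ⟨a, rfl⟩ := QuotientGroup.mk_surjective x
    exact ⟨φ a, hψ a⟩
  refine ⟨quoCenterEquiv hs hc ?_⟩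
  intro x hx
  obtain ⟨a, rfl⟩ := hφ x
  rw [MonoidHom.mem_ker, hψ, QuotientGroup.eq_one_iff] at hx
  rw [Subgroup.mem_center_iff]
  intro y
  obtain ⟨b, rfl⟩ := hφ y
  rw [← map_mul, ← map_mul, Subgroup.mem_center_iff.1 hx b]

/-! ### The derived group of the centralizer -/

section comm

variable {F V : Type*} [Field F] [Fintype F] [hf : Fact (∀ r : F, r ^ 2 ≠ (-1 : F) + 0 * r)]
  [AddCommGroup V] [Module F V] {k : ℕ} {Q : QuadraticForm F V} {w : V ≃ₗ[F] V} {E : (Fin k → KK F) ≃ₗ[F] V}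

theorem comm_psi (h2 : (2 : F) ≠ 0) (h : DD Q w E) {g l : V ≃ₗ[F] V} (hgO : g ∈ O Q)
    (hg : ∀ x, g (w x) = w (g x)) (hlO : l ∈ O Q) (hl : ∀ x, l (w x) = w (l x)) :
    ⁅g, l⁆ ∈ (psi E).range := by
  have inv : ∀ {g : V ≃ₗ[F] V}, (∀ x, g (w x) = w (g x)) → ∀ x, g⁻¹ (w x) = w (g⁻¹ x) := by
    intro g hg x
    show g.symm (w x) = w (g.symm x)
    rw [LinearEquiv.symm_apply_eq, hg, LinearEquiv.apply_symm_apply]
  have hg' := inv hg
  have hl' := inv hl
  have hMv : ∀ {g : V ≃ₗ[F] V} (hg : ∀ x, g (w x) = w (g x)) (v : Fin k → KK F),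
      (LinearMap.toMatrix' (gl h g hg)).mulVec v = gl h g hg v := fun hg v => by
    rw [← Matrix.toLin'_apply, Matrix.toLin'_toMatrix']
  have hone : ∀ {g : V ≃ₗ[F] V} (hg : ∀ x, g (w x) = w (g x)) (hg' : ∀ x, g⁻¹ (w x) = w (g⁻¹ x)),
      LinearMap.toMatrix' (gl h g hg) * LinearMap.toMatrix' (gl h g⁻¹ hg') = 1 := by
    intro g hg hg'
    rw [← LinearMap.toMatrix'_comp, ← LinearMap.toMatrix'_id]
    congr 1
    apply LinearMap.ext
    intro v
    show E.symm (g (E (E.symm (g.symm (E v))))) = v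
    rw [E.apply_symm_apply, g.apply_symm_apply, E.symm_apply_apply]
  set! M := LinearMap.toMatrix' (gl h g hg) * LinearMap.toMatrix' (gl h l hl) * LinearMap.toMatrix' (gl h g⁻¹ hg') *
    LinearMap.toMatrix' (gl h l⁻¹ hl') with hM
  have hdet : M.det = 1 := by
    have e1 := congrArg Matrix.det (hone hg hg')
    have e2 := congrArg Matrix.det (hone hl hl')
    rw [Matrix.det_mul, Matrix.det_one] at e1 e2
    rw [hM, Matrix.det_mul, Matrix.det_mul, Matrix.det_mul]
    calc _ = ((LinearMap.toMatrix' (gl h g hg)).det * (LinearMap.toMatrix' (gl h g⁻¹ hg')).det) *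
          ((LinearMap.toMatrix' (gl h l hl)).det * (LinearMap.toMatrix' (gl h l⁻¹ hl')).det) := by ring
      _ = 1 := by rw [e1, e2, one_mul]
  have hact : ∀ v, M.mulVec v = gl h g hg (gl h l hl (gl h g⁻¹ hg' (gl h l⁻¹ hl' v))) := by
    intro v
    rw [hM, ← Matrix.mulVec_mulVec, ← Matrix.mulVec_mulVec, ← Matrix.mulVec_mulVec, hMv, hMv, hMv, hMv]
  refine ⟨mkSU M hdet ?_, ?_⟩
  · intro u v
    rw [hact, hact, gl_herm h2 h hgO, gl_herm h2 h hlO, gl_herm h2 h ((O Q).inv_mem hgO),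
      gl_herm h2 h ((O Q).inv_mem hlO)]
  · apply LinearEquiv.ext
    intro x
    rw [psi_apply, act_def, mat_mkSU, hact]
    show E (E.symm (g (E (E.symm (l (E (E.symm (g.symm (E (E.symm (l.symm (E (E.symm x)))))))))))))
      = g (l (g.symm (l.symm x)))
    simp only [E.apply_symm_apply]

theorem psi_comm (h : DD Q w E) (A : SU k (KK F) 3) : psi E A * w = w * psi E A := by
  apply LinearEquiv.ext
  intro x
  show E (act A (E.symm (w x))) = w (E (act A (E.symm x)))
  rw [h.symm_w, act_smul, h.om]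

end comm

/-! ### The image of `SU₄(3)` -/

variable {F : Type} [Field F] [Fintype F] {V : Type*} [AddCommGroup V] [Module F V] [FiniteDimensional F V]
  {Q : QuadraticForm F V}

theorem caseB_rs' (hF : Fintype.card F = 3) (hQ : Nondeg Q) (hn : finrank F V = 8) {w : Om Q}
    (hw : ∀ v, (w : V ≃ₗ[F] V) ((w : V ≃ₗ[F] V) v) = -v) :
    ∃ N ≤ Subgroup.centralizer ({(w : Om Q ⧸ Subgroup.center (Om Q))} : Set (Om Q ⧸ Subgroup.center (Om Q))),
      Tp ↥N ∧ (∀ P ≤ Subgroup.centralizer ({(w : Om Q ⧸ Subgroup.center (Om Q))} :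
        Set (Om Q ⧸ Subgroup.center (Om Q))), ⁅P, P⁆ = P → P ≤ N) ∧ Nat.card N = 6531840 := by
  have h2 := two_ne hF
  have := fact hF
  have hO : ∀ g : V ≃ₗ[F] V, g ∈ Om Q → g ∈ O Q := fun g hg => Subgroup.commutator_le_self _ hg
  have hW : WW Q (w : V ≃ₗ[F] V) := ⟨hO _ w.2, hw⟩
  obtain ⟨E, hE⟩ := exists_DD hF hQ (k := 4) (by omega) hW
  have hle := hE.psi_le hF (by omega)
  let j : SU 4 (KK F) 3 →* Om Q := (psi E).codRestrict (Om Q) fun A => hle ⟨A, rfl⟩
  have hj : ∀ A, ((j A : Om Q) : V ≃ₗ[F] V) = psi E A := fun A => rfl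
  let φ : SU 4 (KK F) 3 →* Om Q ⧸ Subgroup.center (Om Q) := (QuotientGroup.mk' (Subgroup.center (Om Q))).comp j
  have hr : φ.range = im (Q := Q) (psi E).range := by
    ext x
    constructor
    · rintro ⟨A, rfl⟩
      exact ⟨j A, ⟨A, rfl⟩, rfl⟩
    · rintro ⟨g, ⟨A, hA⟩, rfl⟩
      exact ⟨A, congrArg _ (show j A = g from Subtype.ext hA)⟩
  let n : SU 4 (KK F) 3 := Cfsg.Agent.LieClassical.SUBasic.suScalar 3 (om F) (om_pow F) (om_pow F)
  have hn4 : ∀ x, act n x = om F • x := by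
    intro x
    funext i
    show (Matrix.diagonal (fun _ => om F)).mulVec x i = _
    rw [Matrix.mulVec_diagonal]
    rfl
  have hjn : j n = w := by
    apply Subtype.ext
    rw [hj]
    apply LinearEquiv.ext
    intro x
    rw [psi_apply, hn4, hE.om, E.apply_symm_apply]
  have hq := Cfsg.Agent.OddHalf.NI3.Bad.EightUnit.quasi (F := F) hF (k := 4) le_rfl
  -- the kernel
  have hneg : ∀ A, φ A = 1 ↔ A = 1 ∨ A = n * n := by
    intro A
    have hnn : ((j (n * n) : Om Q) : V ≃ₗ[F] V) = LinearEquiv.neg F := by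
      rw [map_mul, hjn]
      apply LinearEquiv.ext
      intro x
      exact hw x
    constructor
    · intro h
      have h1 : j A ∈ Subgroup.center (Om Q) := (QuotientGroup.eq_one_iff _).1 h
      rcases center_cases hF hQ (by omega) h1 with h3 | h3
      · left
        apply psi_injective E
        rw [map_one]
        exact congrArg (fun z : Om Q => (z : V ≃ₗ[F] V)) h3
      · right
        apply psi_injective E
        exact h3.trans hnn.symm
    · rintro (rfl | rfl)
      · exact map_one φ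
      · refine (QuotientGroup.eq_one_iff _).2 ?_
        rw [Subgroup.mem_center_iff]
        intro g
        apply Subtype.ext
        show (g : V ≃ₗ[F] V) * (j (n * n) : Om Q) = (j (n * n) : Om Q) * (g : V ≃ₗ[F] V)
        rw [hnn, neg_comm]
  have hnn1 : n * n ≠ 1 := by
    intro h
    have h1 : w * w = 1 := by rw [← hjn, ← map_mul, h, map_one]
    have : Nontrivial V := Module.nontrivial_of_finrank_pos (R := F) (by omega)
    obtain ⟨v, hv⟩ := _root_.exists_ne (0 : V)
    have h3 : (w : V ≃ₗ[F] V) ((w : V ≃ₗ[F] V) v) = v := LinearEquiv.congr_fun (congrArg Subtype.val h1) v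
    rw [hw] at h3
    exact ne_neg hF hv h3.symm
  have hkc : φ.ker ≤ Subgroup.center (SU 4 (KK F) 3) := by
    intro A hA
    have hnc : n ∈ Subgroup.center (SU 4 (KK F) 3) :=
      Cfsg.Agent.LieClassical.SUBasic.suScalar_mem_center 3 (om F) (om_pow F) (om_pow F)
    rcases (hneg A).1 hA with rfl | rfl
    · exact Subgroup.one_mem _
    · exact Subgroup.mul_mem _ hnc hnc
  have hkcard : Nat.card φ.ker = 2 := by
    rw [Nat.card_eq_two_iff]
    refine ⟨⟨1, Subgroup.one_mem _⟩, ⟨n * n, (hneg _).2 (Or.inr rfl)⟩, fun h => hnn1 (congrArg Subtype.val h).symm, ?_⟩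
    ext A
    simp only [Set.mem_insert_iff, Set.mem_singleton_iff, Set.mem_univ, iff_true]
    rcases (hneg A).1 A.2 with h | h
    · left; exact Subtype.ext h
    · right; exact Subtype.ext h
  have hKK : Fintype.card (KK F) = 9 := by rw [card_KK, hF]; norm_num
  have hcardN : Nat.card φ.range = 6531840 := by
    have h1 := card_of_ext φ.rangeRestrict_surjective
    rw [MonoidHom.ker_rangeRestrict, hkcard, card_SU_four (KK F) hKK] at h1
    omega
  have hnt : Nontrivial ↥φ.range := by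
    by_contra hcon
    rw [not_nontrivial_iff_subsingleton] at hcon
    have := Nat.card_unique (α := ↥φ.range)
    omega
  obtain ⟨e⟩ := center_quot hq φ.rangeRestrict φ.rangeRestrict_surjective (by
    rw [MonoidHom.ker_rangeRestrict]; exact hkc)
  have hqc : Nat.card (↥φ.range ⧸ Subgroup.center ↥φ.range) = 3265920 := by
    rw [Nat.card_congr e.toEquiv]
    exact card_psu_four_three (KK F) hKK
  have hT : Tp ↥φ.range := by
    refine ⟨SignalizersComponents.ComponentImage.isQuasisimple_of_surjective hq φ.rangeRestrict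
      φ.rangeRestrict_surjective hnt, ⟨?_, ?_⟩, Or.inr (Or.inr (Or.inr hcardN))⟩
    · exact Or.inr (Or.inr (Or.inl ⟨rfl, Or.inr (Or.inr (Or.inl ⟨KK F, inferInstance, inferInstance, hKK, ⟨e⟩⟩))⟩))
    · exact not_exc_of_card hcardN 186 (by norm_num) (by norm_num) (by norm_num) (by rw [hqc]; norm_num)
        (by norm_num) (by norm_num) (by norm_num)
  refine ⟨φ.range, ?_, hT, ?_, hcardN⟩
  · rintro _ ⟨A, rfl⟩
    rw [Subgroup.mem_centralizer_singleton_iff]
    show QuotientGroup.mk' (Subgroup.center (Om Q)) (j A) * QuotientGroup.mk' (Subgroup.center (Om Q)) w =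
      QuotientGroup.mk' (Subgroup.center (Om Q)) w * QuotientGroup.mk' (Subgroup.center (Om Q)) (j A)
    rw [← map_mul, ← map_mul]
    congr 1
    exact Subtype.ext (psi_comm hE A)
  · intro P hPC hPP
    have h1 := perf_le (Z := Subgroup.center (Om Q)) le_rfl hPC hPP
    refine h1.trans ?_
    rw [hr]
    rw [Subgroup.map_le_iff_le_comap, Subgroup.commutator_le]
    intro g hg l hl
    rw [Subgroup.mem_centralizer_singleton_iff] at hg hl
    refine ⟨⁅g, l⁆, ?_, rfl⟩
    exact comm_psi h2 hE (hO _ g.2) (fun x => LinearEquiv.congr_fun (congrArg Subtype.val hg) x) (hO _ l.2)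
      (fun x => LinearEquiv.congr_fun (congrArg Subtype.val hl) x)

theorem caseB_rs (hF : Fintype.card F = 3) (hQ : Nondeg Q) (hn : finrank F V = 8) {w : Om Q}
    (hw : ∀ v, (w : V ≃ₗ[F] V) ((w : V ≃ₗ[F] V) v) = -v) : Rs (w : Om Q ⧸ Subgroup.center (Om Q)) := by
  obtain ⟨N, h1, h2, h3, -⟩ := caseB_rs' hF hQ hn hw
  exact Or.inr ⟨N, h1, h2, h3⟩

end Cfsg.Agent.CharThree

end

-- merged: Cfsg.Agent.CharThree.CaseBBal
section

/-!
# `O(C(w)) = 1`, `w ∈ Ω(V)`, `w² = -1`, `V` over `F₃`, `dim V = 8` (helper67)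
-/

set_option autoImplicit false
set_option linter.unusedSectionVars false

namespace Cfsg.Agent.CharThree

open QuadraticMap Module Cfsg Cfsg.Agent.LieClassical.OrthCore Cfsg.Agent.OddHalf.NI3.Bad.Emb
  Cfsg.Agent.ClassicalGeometry.OddInvolutions Cfsg.Agent.OddHalf.NI3.Bad.QPair Cfsg.Agent.OddHalf.NI3.Bad.Sim
  Cfsg.Agent.OddHalf.NI3.Bad.Frame Cfsg.Agent.CTwoTab Cfsg.Agent.OddHalf.NI3.Bad.EightUnit

variable {F V : Type*} [Field F] [Fintype F] [AddCommGroup V] [Module F V] [FiniteDimensional F V]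
  {Q : QuadraticForm F V}

section

variable {w : V ≃ₗ[F] V} {b : Fin 4 → V}

/-- the basis `b_j, w b_j` -/
def ff (w : V ≃ₗ[F] V) (b : Fin 4 → V) : Fin 4 ⊕ Fin 4 → V := Sum.elim b fun i => w (b i)

theorem ff_OF (hW : WW Q w) (h : ON Q w b) : OF Q (fun _ : Fin 4 ⊕ Fin 4 => (1 : F)) (ff w b) := by
  refine ⟨?_, fun _ => one_ne_zero, ?_⟩
  · rintro (i | i)
    · exact h.one i
    · show Q (w (b i)) = 1
      rw [hW.nm, h.one]
  · rintro (i | i) (j | j) hij
    · exact h.orth i j (fun h => hij (by rw [h]))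
    · exact h.wor i j
    · exact h.wor' hW i j
    · exact h.orth' hW i j (fun h => hij (by rw [h]))

/-- the pair of an index -/
def pr4 : Fin 4 ⊕ Fin 4 → Fin 4 := Sum.elim id id

theorem w_ff_inl (i : Fin 4) : w (ff w b (Sum.inl i)) = ff w b (Sum.inr i) := rfl

theorem w_ff_inr (hW : WW Q w) (i : Fin 4) : w (ff w b (Sum.inr i)) = -ff w b (Sum.inl i) := hW.sq _

theorem ff_card : Fintype.card (Fin 4 ⊕ Fin 4) = 8 := by
  rw [Fintype.card_sum, Fintype.card_fin]

theorem ff_ext (h2 : (2 : F) ≠ 0) (hn : finrank F V = 8) (hW : WW Q w) (h : ON Q w b) {s t : V ≃ₗ[F] V}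
    (hst : ∀ i, s (ff w b i) = t (ff w b i)) : s = t := by
  have h4 : t⁻¹ * s = 1 := by
    apply LinearEquiv.ext
    refine fun v => ext_full h2 (ff_OF hW h) (by rw [ff_card, hn]) (g := t⁻¹ * s) ?_ v
    intro i
    show t.symm (s (ff w b i)) = ff w b i
    rw [hst, LinearEquiv.symm_apply_apply]
  exact (inv_mul_eq_one.1 h4).symm

/-- `-1` on a pair -/
theorem exists_t1 (hF : Fintype.card F = 3) (hn : finrank F V = 8) (hW : WW Q w) (h : ON Q w b) (k : Fin 4) :
    ∃ t : Om Q, t ∈ SD Q (ff w b) ∧ (t : V ≃ₗ[F] V) * w = w * t ∧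
      ∀ i, (t : V ≃ₗ[F] V) (ff w b i) = if pr4 i = k then -ff w b i else ff w b i := by
  have h2 := two_ne hF
  have hf := ff_OF hW h
  have hne : (Sum.inl k : Fin 4 ⊕ Fin 4) ≠ Sum.inr k := Sum.inl_ne_inr
  have hval : ∀ i, sg2 h2 hf hne (ff w b i) = if pr4 i = k then -ff w b i else ff w b i := by
    intro i
    split_ifs with hi
    · rcases i with i | i
      · have : i = k := hi
        subst this
        exact sg2_left _ _ _
      · have : i = k := hi
        subst this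
        exact sg2_right _ _ _
    · apply sg2_other
      · rintro rfl; exact hi rfl
      · rintro rfl; exact hi rfl
  refine ⟨⟨sg2 h2 hf hne, sg2_mem_Om h2 hf hne rfl⟩, sgn_sg2 h2 hf hne, ?_, hval⟩
  apply ff_ext h2 hn hW h
  rintro (i | i)
  · show sg2 h2 hf hne (w (ff w b (Sum.inl i))) = w (sg2 h2 hf hne (ff w b (Sum.inl i)))
    rw [hval, w_ff_inl, hval]
    by_cases hi : i = k
    · have e1 : pr4 (Sum.inl i) = k := hi
      have e2 : pr4 (Sum.inr i) = k := hi
      rw [if_pos e1, if_pos e2, map_neg, w_ff_inl]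
    · have e1 : ¬ pr4 (Sum.inl i) = k := hi
      have e2 : ¬ pr4 (Sum.inr i) = k := hi
      rw [if_neg e1, if_neg e2, w_ff_inl]
  · show sg2 h2 hf hne (w (ff w b (Sum.inr i))) = w (sg2 h2 hf hne (ff w b (Sum.inr i)))
    rw [hval, w_ff_inr hW, map_neg, hval]
    by_cases hi : i = k
    · have e1 : pr4 (Sum.inl i) = k := hi
      have e2 : pr4 (Sum.inr i) = k := hi
      rw [if_pos e1, if_pos e2, map_neg, w_ff_inr hW]
    · have e1 : ¬ pr4 (Sum.inl i) = k := hi
      have e2 : ¬ pr4 (Sum.inr i) = k := hi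
      rw [if_neg e1, if_neg e2, w_ff_inr hW]

/-- `-1` on the `b_j`, `1` on the `w b_j` -/
theorem exists_t2 (hF : Fintype.card F = 3) (hn : finrank F V = 8) (hW : WW Q w) (h : ON Q w b) :
    ∃ t : Om Q, t ∈ SD Q (ff w b) ∧ (t : V ≃ₗ[F] V) * w = LinearEquiv.neg F * (w * (t : V ≃ₗ[F] V)) ∧
      (∀ i, (t : V ≃ₗ[F] V) (ff w b (Sum.inl i)) = -ff w b (Sum.inl i)) ∧
      ∀ i, (t : V ≃ₗ[F] V) (ff w b (Sum.inr i)) = ff w b (Sum.inr i) := by
  have h2 := two_ne hF
  have hf := ff_OF hW h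
  have h01 : (Sum.inl 0 : Fin 4 ⊕ Fin 4) ≠ Sum.inl 1 := by decide
  have h23 : (Sum.inl 2 : Fin 4 ⊕ Fin 4) ≠ Sum.inl 3 := by decide
  have hl : ∀ i, (sg2 h2 hf h01 * sg2 h2 hf h23) (ff w b (Sum.inl i)) = -ff w b (Sum.inl i) := by
    intro i
    show sg2 h2 hf h01 (sg2 h2 hf h23 (ff w b (Sum.inl i))) = _
    fin_cases i
    · show sg2 h2 hf h01 (sg2 h2 hf h23 (ff w b (Sum.inl 0))) = -ff w b (Sum.inl 0)
      rw [sg2_other h2 hf h23 (by decide) (by decide), sg2_left]
    · show sg2 h2 hf h01 (sg2 h2 hf h23 (ff w b (Sum.inl 1))) = -ff w b (Sum.inl 1)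
      rw [sg2_other h2 hf h23 (by decide) (by decide), sg2_right]
    · show sg2 h2 hf h01 (sg2 h2 hf h23 (ff w b (Sum.inl 2))) = -ff w b (Sum.inl 2)
      rw [sg2_left, map_neg, sg2_other h2 hf h01 (by decide) (by decide)]
    · show sg2 h2 hf h01 (sg2 h2 hf h23 (ff w b (Sum.inl 3))) = -ff w b (Sum.inl 3)
      rw [sg2_right, map_neg, sg2_other h2 hf h01 (by decide) (by decide)]
  have hr : ∀ i, (sg2 h2 hf h01 * sg2 h2 hf h23) (ff w b (Sum.inr i)) = ff w b (Sum.inr i) := by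
    intro i
    show sg2 h2 hf h01 (sg2 h2 hf h23 (ff w b (Sum.inr i))) = _
    rw [sg2_other h2 hf h23 Sum.inr_ne_inl Sum.inr_ne_inl, sg2_other h2 hf h01 Sum.inr_ne_inl Sum.inr_ne_inl]
  refine ⟨⟨sg2 h2 hf h01 * sg2 h2 hf h23, (Om Q).mul_mem (sg2_mem_Om h2 hf h01 rfl) (sg2_mem_Om h2 hf h23 rfl)⟩,
    (sgn_sg2 h2 hf h01).mul (sgn_sg2 h2 hf h23), ?_, hl, hr⟩
  apply ff_ext h2 hn hW h
  rintro (i | i)
  · show (sg2 h2 hf h01 * sg2 h2 hf h23) (w (ff w b (Sum.inl i))) =
      - w ((sg2 h2 hf h01 * sg2 h2 hf h23) (ff w b (Sum.inl i)))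
    rw [hl, w_ff_inl, hr, map_neg, neg_neg, w_ff_inl]
  · show (sg2 h2 hf h01 * sg2 h2 hf h23) (w (ff w b (Sum.inr i))) =
      - w ((sg2 h2 hf h01 * sg2 h2 hf h23) (ff w b (Sum.inr i)))
    rw [hr, w_ff_inr hW, map_neg, hl]

end

/-- **`O(C(w)) = 1`** -/
theorem caseB_bal (hF : Fintype.card F = 3) (hQ : Nondeg Q) (hn : finrank F V = 8) {w : Om Q}
    (hw : ∀ v, (w : V ≃ₗ[F] V) ((w : V ≃ₗ[F] V) v) = -v) :
    centralizerPPrimeCore 2 (w : Om Q ⧸ Subgroup.center (Om Q)) = ⊥ := by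
  have hO : ∀ g : V ≃ₗ[F] V, g ∈ Om Q → g ∈ O Q := fun g hg => Subgroup.commutator_le_self _ hg
  have hW : WW Q (w : V ≃ₗ[F] V) := ⟨hO _ w.2, hw⟩
  obtain ⟨b, hb⟩ := exists_ON hF hQ hW 4 (by omega)
  have hf := ff_OF hW hb
  have hww : ((w * w : Om Q) : V ≃ₗ[F] V) = LinearEquiv.neg F := LinearEquiv.ext hw
  have hzc : w * w ∈ Subgroup.center (Om Q) := by
    rw [Subgroup.mem_center_iff]
    intro g
    apply Subtype.ext
    show (g : V ≃ₗ[F] V) * (w * w : Om Q) = (w * w : Om Q) * (g : V ≃ₗ[F] V)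
    rw [hww, neg_comm]
  refine core_bot hF hQ (by omega) hf (by rw [ff_card, hn])
    (SD Q (ff (w : V ≃ₗ[F] V) b) ⊓ (Subgroup.centralizer ({(w : Om Q ⧸ Subgroup.center (Om Q))} :
      Set (Om Q ⧸ Subgroup.center (Om Q)))).comap (QuotientGroup.mk' (Subgroup.center (Om Q))))
    (fun t ht => ht.1) ?_ (fun t ht => Subgroup.mem_centralizer_singleton_iff.1 ht.2)
  -- separation
  have hne : ∀ i, ff (w : V ≃ₗ[F] V) b i ≠ -ff (w : V ≃ₗ[F] V) b i := fun i => ne_neg hF (OF_ne_zero hf i)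
  intro i j hij
  by_cases hk : pr4 i = pr4 j
  · obtain ⟨t, ht, htw, htl, htr⟩ := exists_t2 hF hn hW hb
    refine ⟨t, ⟨t, ⟨ht, ?_⟩, rfl⟩, ?_⟩
    · refine Subgroup.mem_comap.2 (Subgroup.mem_centralizer_singleton_iff.2 ?_)
      show (t : Om Q ⧸ Subgroup.center (Om Q)) * (w : Om Q ⧸ Subgroup.center (Om Q)) =
        (w : Om Q ⧸ Subgroup.center (Om Q)) * (t : Om Q ⧸ Subgroup.center (Om Q))
      have h1 : t * w = (w * w) * (w * t) := by
        apply Subtype.ext
        show (t : V ≃ₗ[F] V) * w = ((w * w : Om Q) : V ≃ₗ[F] V) * (w * t)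
        rw [htw, hww]
      have h3 : ((w * w : Om Q) : Om Q ⧸ Subgroup.center (Om Q)) = 1 := (QuotientGroup.eq_one_iff _).2 hzc
      rw [← QuotientGroup.mk_mul, h1, QuotientGroup.mk_mul, h3, one_mul, QuotientGroup.mk_mul]
    · unfold Same
      rcases i with i | i <;> rcases j with j | j
      · exact absurd (congrArg Sum.inl hk) hij
      · show ¬ ((t : V ≃ₗ[F] V) (ff _ b (Sum.inl i)) = ff _ b (Sum.inl i) ↔
          (t : V ≃ₗ[F] V) (ff _ b (Sum.inr j)) = ff _ b (Sum.inr j))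
        rw [htl, htr]
        exact fun h => hne _ (h.2 rfl).symm
      · show ¬ ((t : V ≃ₗ[F] V) (ff _ b (Sum.inr i)) = ff _ b (Sum.inr i) ↔
          (t : V ≃ₗ[F] V) (ff _ b (Sum.inl j)) = ff _ b (Sum.inl j))
        rw [htl, htr]
        exact fun h => hne _ (h.1 rfl).symm
      · exact absurd (congrArg Sum.inr hk) hij
  · obtain ⟨t, ht, htw, hval⟩ := exists_t1 hF hn hW hb (pr4 i)
    refine ⟨t, ⟨t, ⟨ht, ?_⟩, rfl⟩, ?_⟩
    · refine Subgroup.mem_comap.2 (Subgroup.mem_centralizer_singleton_iff.2 ?_)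
      show (t : Om Q ⧸ Subgroup.center (Om Q)) * (w : Om Q ⧸ Subgroup.center (Om Q)) =
        (w : Om Q ⧸ Subgroup.center (Om Q)) * (t : Om Q ⧸ Subgroup.center (Om Q))
      rw [← QuotientGroup.mk_mul, ← QuotientGroup.mk_mul]
      congr 1
      exact Subtype.ext htw
    · unfold Same
      show ¬ ((t : V ≃ₗ[F] V) (ff _ b i) = ff _ b i ↔ (t : V ≃ₗ[F] V) (ff _ b j) = ff _ b j)
      rw [hval, hval, if_pos rfl, if_neg (Ne.symm hk)]
      exact fun h => hne _ (h.2 rfl).symm

end Cfsg.Agent.CharThree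

end

-- merged: Cfsg.Agent.CharThree.Term
section

/-!
# Terminal components in `Ω(V)/Z`, `V` over `F₃`, `dim V = 7, 8` (helper67)

* `orth_rs`, `orth_bal` : the conditions at all involutions; `compC2`;
* `not_terminal` : a component of order 360 is not terminal;
* `rank_four` : the 2-rank is at least 4;
* `orth_res` : restricted even type.
-/

set_option autoImplicit false
set_option linter.unusedSectionVars false

namespace Cfsg.Agent.CharThree

open scoped commutatorElement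
open QuadraticMap Module Cfsg Cfsg.Agent.LieClassical.OrthCore Cfsg.Agent.OddHalf.NI3.Bad.Emb
  Cfsg.Agent.ClassicalGeometry.OddInvolutions Cfsg.Agent.OddHalf.NI3.Bad.QPair Cfsg.Agent.OddHalf.NI3.Bad.Sim
  Cfsg.Agent.OddHalf.NI3.Bad.Frame Cfsg.Agent.OddHalf.NI3.Bad.Models Cfsg.Agent.CTwoTab

variable {F : Type} [Field F] [Fintype F] {V : Type*} [AddCommGroup V] [Module F V] [FiniteDimensional F V]
  {Q : QuadraticForm F V}

/-! ### All involutions -/

/-- the two kinds of involutions -/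
theorem lift_cases (hF : Fintype.card F = 3) (hQ : Nondeg Q) (hn : finrank F V = 7 ∨ finrank F V = 8)
    {x : Om Q ⧸ Subgroup.center (Om Q)} (hx : orderOf x = 2) :
    ∃ w : Om Q, (w : Om Q ⧸ Subgroup.center (Om Q)) = x ∧
      ((w * w = 1 ∧ w ≠ 1 ∧ (w : V ≃ₗ[F] V) ≠ LinearEquiv.neg F) ∨
        (finrank F V = 8 ∧ ∀ v, (w : V ≃ₗ[F] V) ((w : V ≃ₗ[F] V) v) = -v)) := by
  obtain ⟨w, rfl⟩ := QuotientGroup.mk_surjective x
  refine ⟨w, rfl, ?_⟩
  have h1 : (w : Om Q ⧸ Subgroup.center (Om Q)) ^ 2 = 1 := by rw [← hx, pow_orderOf_eq_one]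
  have h3 : w * w ∈ Subgroup.center (Om Q) := by
    rw [← QuotientGroup.eq_one_iff, QuotientGroup.mk_mul, ← pow_two]
    exact h1
  have hne : (w : Om Q ⧸ Subgroup.center (Om Q)) ≠ 1 := by
    intro h
    rw [h, orderOf_one] at hx
    omega
  rcases center_cases hF hQ (by omega) h3 with h | h
  · left
    refine ⟨h, ?_, ?_⟩
    · rintro rfl
      exact hne rfl
    · intro h4
      apply hne
      rw [QuotientGroup.eq_one_iff, Subgroup.mem_center_iff]
      intro g
      apply Subtype.ext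
      show (g : V ≃ₗ[F] V) * w = w * g
      rw [h4, neg_comm]
  · right
    have hneg : _root_.Cfsg.Agent.OddHalf.NI3.Bad.Sim.Neg Q := by
      show (LinearEquiv.neg F : V ≃ₗ[F] V) ∈ Om Q
      rw [← h]
      exact (w * w).2
    refine ⟨?_, fun v => LinearEquiv.congr_fun h v⟩
    rcases hn with hn | hn
    · exact absurd hneg (not_neg_of_odd (two_ne hF) (by rw [hn]; decide))
    · exact hn

theorem orth_rs (hF : Fintype.card F = 3) (hQ : Nondeg Q) (hn : finrank F V = 7 ∨ finrank F V = 8)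
    {x : Om Q ⧸ Subgroup.center (Om Q)} (hx : orderOf x = 2) : Rs x := by
  obtain ⟨w, rfl, ⟨h1, h2, h3⟩ | ⟨h1, h2⟩⟩ := lift_cases hF hQ hn hx
  · exact caseA_rs hF hQ hn h1 h2 h3
  · exact caseB_rs hF hQ h1 h2

theorem orth_bal (hF : Fintype.card F = 3) (hQ : Nondeg Q) (hn : finrank F V = 7 ∨ finrank F V = 8)
    {x : Om Q ⧸ Subgroup.center (Om Q)} (hx : orderOf x = 2) : centralizerPPrimeCore 2 x = ⊥ := by
  obtain ⟨w, rfl, ⟨h1, h2, h3⟩ | ⟨h1, h2⟩⟩ := lift_cases hF hQ hn hx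
  · exact caseA_bal hF hQ (by omega) h1 h2 h3
  · exact caseB_bal hF hQ h1 h2

theorem finite_G : Finite (Om Q ⧸ Subgroup.center (Om Q)) := by
  have := finite_Om (Q := Q)
  infer_instance

/-- **`O(C(x)) = 1` and the components of `C(x)` are `C₂`-groups** -/
theorem orth_compC2 (hF : Fintype.card F = 3) (hQ : Nondeg Q) (hn : finrank F V = 7 ∨ finrank F V = 8) :
    CompC2 (Om Q ⧸ Subgroup.center (Om Q)) := by
  have := finite_G (Q := Q)
  exact ⟨fun x hx => orth_bal hF hQ hn hx, fun x hx => ((orth_rs hF hQ hn hx).at (orth_bal hF hQ hn hx)).comp⟩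

/-! ### Components of order 360 -/

/-- dimension 5 or 6 -/
theorem tq (hF : Fintype.card F = 3) (hQ : Nondeg Q) (hn : finrank F V = 5 ∨ finrank F V = 6) :
    Tp (Om Q) ∧ Nat.card (Om Q) ≠ 360 := by
  rcases hn with hn | hn
  · refine ⟨tp5 hF hQ hn, ?_⟩
    obtain ⟨e⟩ := om5 hF hQ hn
    rw [Nat.card_congr e.toEquiv, card_psp_four_three _ hF]
    norm_num
  · by_cases h : _root_.Cfsg.Agent.OddHalf.NI3.Bad.Sim.Neg Q
    · refine ⟨tp6c hF hQ hn h, ?_⟩
      have : Fact (Nat.Prime 3) := ⟨Nat.prime_three⟩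
      obtain ⟨K, _, _, _, hK⟩ := exists_field 3 2 (by norm_num)
      norm_num at hK
      obtain ⟨e⟩ := om6c hF hQ hn h hK
      rw [Subgroup.card_eq_card_quotient_mul_card_subgroup (Subgroup.center (Om Q)), Nat.card_congr e.toEquiv,
        card_psu_four_three _ hK, card_center (two_ne hF) hQ (by omega) h]
      norm_num
    · refine ⟨tp6 hF hQ hn h, ?_⟩
      obtain ⟨e⟩ := om6 hF hQ hn h
      rw [Nat.card_congr e.toEquiv, card_psl_four_three _ hF]
      norm_num

theorem fam_tq {ι : Type} [Fintype ι] [DecidableEq ι] {d : ι → F} {f : ι → V} (hF : Fintype.card F = 3)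
    (hf : OF Q d f) (hι : Fintype.card ι = 5 ∨ Fintype.card ι = 6) :
    Tp ↥(hf.ad (two_ne hF)).B ∧ Nat.card ↥(hf.ad (two_ne hF)).B ≠ 360 := by
  have hr : finrank F (ι → F) = Fintype.card ι := finrank_fintype_fun_eq_card F
  have h := tq hF (hf.nondeg (two_ne hF)) (by rw [hr]; exact hι)
  refine ⟨B_tp (two_ne hF) hf h.1, ?_⟩
  rw [← Nat.card_congr (hf.ad (two_ne hF)).BEquiv.toEquiv]
  exact h.2

/-- the perfect subgroups of `C(w)`, `B₁` of order not 360 or solvable -/
theorem ne_of_frame (hF : Fintype.card F = 3) (hQ : Nondeg Q) (hn : 3 ≤ finrank F V) {w : Om Q}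
    {B₁ : Subgroup (V ≃ₗ[F] V)} (hB₁ : B₁ ≤ Om Q)
    (hw : ∀ g ∈ B₁, g * (w : V ≃ₗ[F] V) = w * g)
    (hneg : (LinearEquiv.neg F : V ≃ₗ[F] V) ∉ B₁)
    (hP : ∀ P ≤ Subgroup.centralizer ({(w : Om Q ⧸ Subgroup.center (Om Q))} : Set (Om Q ⧸ Subgroup.center (Om Q))),
      ⁅P, P⁆ = P → P ≤ im B₁) (hT : Tp ↥B₁) {K : Subgroup (Om Q ⧸ Subgroup.center (Om Q))}
    (hK : IsComponentOf K (Subgroup.centralizer ({(w : Om Q ⧸ Subgroup.center (Om Q))} :
      Set (Om Q ⧸ Subgroup.center (Om Q))))) : K = im B₁ ∧ Nat.card K = Nat.card B₁ := by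
  have := finite_G (Q := Q)
  obtain ⟨e⟩ := im_equiv hF hQ hn hB₁ hneg
  have hKB : K = im B₁ := by
    refine comp_eq (hT.congr e).qs ?_ hP hK
    rintro _ ⟨g, hg, rfl⟩
    rw [Subgroup.mem_centralizer_singleton_iff]
    show QuotientGroup.mk' (Subgroup.center (Om Q)) g * QuotientGroup.mk' (Subgroup.center (Om Q)) w =
      QuotientGroup.mk' (Subgroup.center (Om Q)) w * QuotientGroup.mk' (Subgroup.center (Om Q)) g
    rw [← map_mul, ← map_mul]
    congr 1
    exact Subtype.ext (hw _ hg)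
  refine ⟨hKB, ?_⟩
  rw [hKB, ← Nat.card_congr e.toEquiv]

/-- the perfect subgroups, from the frame -/
theorem perf_frame {w : Om Q} {B₁ B₂ : Subgroup (V ≃ₗ[F] V)} (hB₁ : B₁ ≤ Om Q)
    (hcomm : ∀ g ∈ B₁, ∀ k ∈ B₂, g * k = k * g)
    (hle : ∀ g ∈ Om Q, g * (w : V ≃ₗ[F] V) = w * g → ∀ k ∈ Om Q, k * (w : V ≃ₗ[F] V) = w * k → ⁅g, k⁆ ∈ B₁ ⊔ B₂)
    (hB₂ : B₂ ≤ Om Q) (h₂ : Group.IsSolvable ↥B₂) :
    ∀ P ≤ Subgroup.centralizer ({(w : Om Q ⧸ Subgroup.center (Om Q))} : Set (Om Q ⧸ Subgroup.center (Om Q))),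
      ⁅P, P⁆ = P → P ≤ im B₁ := by
  intro P hPC hPP
  have h1 := perf_le (Z := Subgroup.center (Om Q)) le_rfl hPC hPP
  refine perf_le_left (B := im B₁) (D := im B₂) ?_ (im_solvable h₂) ?_ hPP
  · rintro _ ⟨b, hb, rfl⟩ _ ⟨d, hd, rfl⟩
    rw [← map_mul, ← map_mul]
    congr 1
    exact Subtype.ext (hcomm _ hb _ hd)
  · refine h1.trans ?_
    rw [Subgroup.map_le_iff_le_comap, Subgroup.commutator_le]
    intro g hg k hk
    rw [Subgroup.mem_centralizer_singleton_iff] at hg hk
    have h2 := hle g g.2 (congrArg Subtype.val hg) k k.2 (congrArg Subtype.val hk)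
    obtain ⟨b, hb, d, hd, hbd⟩ := (mem_sup_comm hcomm).1 h2
    have h3 : ⁅g, k⁆ = (⟨b, hB₁ hb⟩ : Om Q) * ⟨d, hB₂ hd⟩ := Subtype.ext hbd
    rw [Subgroup.mem_comap, h3, map_mul]
    exact Subgroup.mul_mem_sup ⟨⟨b, hB₁ hb⟩, hb, rfl⟩ ⟨⟨d, hB₂ hd⟩, hd, rfl⟩

theorem not_comp_of_solv {w : Om Q} {B₁ : Subgroup (V ≃ₗ[F] V)} (hs : Group.IsSolvable ↥B₁)
    (hP : ∀ P ≤ Subgroup.centralizer ({(w : Om Q ⧸ Subgroup.center (Om Q))} : Set (Om Q ⧸ Subgroup.center (Om Q))),
      ⁅P, P⁆ = P → P ≤ im B₁) {K : Subgroup (Om Q ⧸ Subgroup.center (Om Q))}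
    (hK : IsComponentOf K (Subgroup.centralizer ({(w : Om Q ⧸ Subgroup.center (Om Q))} :
      Set (Om Q ⧸ Subgroup.center (Om Q))))) : False := by
  have := finite_G (Q := Q)
  have h1 := hP K hK.1 (isPerfect_of_comp hK)
  have h2 := im_solvable (Q := Q) hs
  have hq' : Cfsg.IsQuasisimple ↥K := SignalizersComponents.Components.isQuasisimple_of_mulEquiv
    (Subgroup.subgroupOfEquivOfLe hK.1) hK.2.2
  exact SignalizersComponents.Components.quasisimple_not_isSolvable hq'
    (Group.isSolvable_of_isSolvable_injective (f := Subgroup.inclusion h1) (Subgroup.inclusion_injective h1))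

/-- a component of order 360 of `C(w)`, `w² = 1`: the two eigenspaces have dimension 4 -/
theorem adp_360 (hF : Fintype.card F = 3) (hQ : Nondeg Q) (hn : finrank F V = 7 ∨ finrank F V = 8) {w : Om Q}
    {a b : ℕ} {c c' : F} {f : Fin (a + 1) → V} {f' : Fin (b + 1) → V} (h : Adp Q (w : V ≃ₗ[F] V) c c' f f')
    {K : Subgroup (Om Q ⧸ Subgroup.center (Om Q))}
    (hK : IsComponentOf K (Subgroup.centralizer ({(w : Om Q ⧸ Subgroup.center (Om Q))} :
      Set (Om Q ⧸ Subgroup.center (Om Q))))) (hc : Nat.card K = 360) :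
    a = 3 ∧ b = 3 ∧ K = im (h.hf.ad (two_ne hF)).B := by
  have h2 := two_ne hF
  have hwO : (w : V ≃ₗ[F] V) ∈ O Q := Subgroup.commutator_le_self _ w.2
  obtain ⟨hev, hc'⟩ := h.even hF w.2
  have hcard := h.card
  have hfc := h.fcard
  have h3 : 3 ≤ Fintype.card (Fin (a + 1) ⊕ Fin (b + 1)) := by rw [hfc]; omega
  have hd' : ∀ i : Fin (b + 1), (if i = 0 then c' else 1) = 1 := by
    intro i; rw [hc']; split_ifs <;> rfl
  have hs : a + 1 ≤ 3 → Group.IsSolvable ↥(h.hf.ad h2).B := fun ha =>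
    solv_small hF hQ h.full h3 h.hf (s := Sum.inl) (fun k => rfl) (by rw [Fintype.card_fin]; exact ha)
  have hs' : b + 1 ≤ 3 → Group.IsSolvable ↥(h.hf'.ad h2).B := fun hb =>
    solv_small hF hQ h.full h3 h.hf' (s := Sum.inr) (fun k => rfl) (by rw [Fintype.card_fin]; exact hb)
  have hBB : ∀ g ∈ (h.hf.ad h2).B, ∀ k ∈ (h.hf'.ad h2).B, g * k = k * g := h.B_comm h2 hQ
  have hle : ∀ g ∈ Om Q, g * (w : V ≃ₗ[F] V) = w * g → ∀ k ∈ Om Q, k * (w : V ≃ₗ[F] V) = w * k →
      ⁅g, k⁆ ∈ (h.hf.ad h2).B ⊔ (h.hf'.ad h2).B := fun g hg hgw k hk hkw =>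
    h.comm_le h2 hQ hwO (Subgroup.commutator_le_self _ hg) hgw (Subgroup.commutator_le_self _ hk) hkw
  have hw₁ : ∀ g ∈ (h.hf.ad h2).B, g * (w : V ≃ₗ[F] V) = w * g :=
    fun g hg => h.comm_w h2 hwO ((h.hf.ad h2).B_le_Fx hQ hg)
  have hw₂ : ∀ g ∈ (h.hf'.ad h2).B, g * (w : V ≃ₗ[F] V) = w * g :=
    fun g hg => h.comm_w' h2 hwO ((h.hf'.ad h2).B_le_Fx hQ hg)
  obtain ⟨m, hm⟩ := hev
  have first : Group.IsSolvable ↥(h.hf'.ad h2).B → a + 1 = 5 ∨ a + 1 = 6 → False := by
    intro hS ha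
    have hP := perf_frame (h.hf.ad h2).B_le hBB hle (h.hf'.ad h2).B_le hS
    have hT := fam_tq hF h.hf (by rw [Fintype.card_fin]; exact ha)
    have h4 := (ne_of_frame hF hQ (by omega) (h.hf.ad h2).B_le hw₁ (h.neg_notMem hF hQ) hP hT.1 hK).2
    exact hT.2 (h4.symm.trans hc)
  have hb : b + 1 = 2 ∨ b + 1 = 4 ∨ b + 1 = 6 := by omega
  rcases hb with hb | hb | hb
  · exact (first (hs' (by omega)) (by (clear * - hn hcard hb; omega))).elim
  · have hS : Group.IsSolvable ↥(h.hf'.ad h2).B := solv_four_one hF h.hf' (by rw [Fintype.card_fin, hb]) hd'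
    have hP := perf_frame (h.hf.ad h2).B_le hBB hle (h.hf'.ad h2).B_le hS
    rcases hn with hn | hn
    · exact (not_comp_of_solv (hs (by omega)) hP hK).elim
    · refine ⟨by omega, by omega, ?_⟩
      rcases fam_tp hF h.hf (by rw [Fintype.card_fin]; omega) with hT | hT
      · exact (ne_of_frame hF hQ (by omega) (h.hf.ad h2).B_le hw₁ (h.neg_notMem hF hQ) hP hT hK).1
      · exact (not_comp_of_solv hT hP hK).elim
  · exfalso
    have hle' : ∀ g ∈ Om Q, g * (w : V ≃ₗ[F] V) = w * g → ∀ k ∈ Om Q, k * (w : V ≃ₗ[F] V) = w * k →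
        ⁅g, k⁆ ∈ (h.hf'.ad h2).B ⊔ (h.hf.ad h2).B := by
      intro g hg hgw k hk hkw
      rw [sup_comm]
      exact hle g hg hgw k hk hkw
    have hP := perf_frame (h.hf'.ad h2).B_le (fun g hg k hk => (hBB k hk g hg).symm) hle' (h.hf.ad h2).B_le
      (hs (by omega))
    have hT := fam_tq hF h.hf' (by rw [Fintype.card_fin]; omega)
    have h4 := (ne_of_frame hF hQ (by omega) (h.hf'.ad h2).B_le hw₂ (h.neg.neg_notMem hF hQ) hP hT.1 hK).2
    exact hT.2 (h4.symm.trans hc)

/-- a component of order 360 is not terminal -/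
theorem adp_not_terminal (hF : Fintype.card F = 3) (hQ : Nondeg Q) (hn : finrank F V = 8) {w : Om Q}
    {c : F} {f : Fin 4 → V} {f' : Fin 4 → V} (h : Adp (a := 3) (b := 3) Q (w : V ≃ₗ[F] V) c 1 f f')
    {K : Subgroup (Om Q ⧸ Subgroup.center (Om Q))} (hK : K = im (h.hf.ad (two_ne hF)).B) (hc : Nat.card K = 360)
    (hT : ∀ y ∈ Subgroup.centralizer (K : Set (Om Q ⧸ Subgroup.center (Om Q))), orderOf y = 2 →
      IsComponentOf K (Subgroup.centralizer ({y} : Set (Om Q ⧸ Subgroup.center (Om Q))))) : False := by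
  have h2 := two_ne hF
  have := finite_G (Q := Q)
  have h01 : (0 : Fin 4) ≠ 1 := by decide
  have hval : ∀ i : Fin 4, (if i = 0 then (1 : F) else 1) = 1 := fun i => by split_ifs <;> rfl
  -- the involution `y`
  let y : V ≃ₗ[F] V := sg2 h2 h.hf' h01
  have hyOm : y ∈ Om Q := sg2_mem_Om h2 h.hf' h01 (by rw [hval, hval])
  have hyFx : y ∈ (h.hf'.ad h2).Fx := (h.hf'.ad h2).B_le_Fx hQ (sg2_mem_B h2 hQ h.hf' h01 (by rw [hval, hval]))
  have hyy : y * y = 1 := sg2_mul_self _ _ _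
  have hy0 : y (f' 0) = -f' 0 := sg2_left _ _ _
  have hy1 : y (f' 1) = -f' 1 := sg2_right _ _ _
  have hy2 : y (f' 2) = f' 2 := sg2_other h2 h.hf' h01 (by decide) (by decide)
  have hy3 : y (f' 3) = f' 3 := sg2_other h2 h.hf' h01 (by decide) (by decide)
  have hyf : ∀ i, y (f i) = f i := fun i => h.Fx_f h2 hyFx i
  have hord : orderOf ((⟨y, hyOm⟩ : Om Q) : Om Q ⧸ Subgroup.center (Om Q)) = 2 := by
    rw [orderOf_eq_prime_iff]
    constructor
    · rw [← QuotientGroup.mk_pow]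
      have : (⟨y, hyOm⟩ : Om Q) ^ 2 = 1 := by
        rw [pow_two]
        exact Subtype.ext hyy
      rw [this]; rfl
    · intro h4
      rw [QuotientGroup.eq_one_iff] at h4
      rcases center_cases hF hQ (by omega) h4 with h5 | h5
      · have h6 : y = 1 := congrArg Subtype.val h5
        rw [h6] at hy0
        exact ne_neg hF (OF_ne_zero h.hf' 0) hy0
      · have h6 : y = LinearEquiv.neg F := h5
        have h7 := hyf 0
        rw [h6] at h7
        exact ne_neg hF (OF_ne_zero h.hf 0) h7.symm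
  have hcent : ((⟨y, hyOm⟩ : Om Q) : Om Q ⧸ Subgroup.center (Om Q)) ∈
      Subgroup.centralizer (K : Set (Om Q ⧸ Subgroup.center (Om Q))) := by
    rw [Subgroup.mem_centralizer_iff]
    intro k hk
    rw [hK] at hk
    obtain ⟨g, hg, rfl⟩ := hk
    show QuotientGroup.mk' (Subgroup.center (Om Q)) g * QuotientGroup.mk' (Subgroup.center (Om Q)) ⟨y, hyOm⟩ =
      QuotientGroup.mk' (Subgroup.center (Om Q)) ⟨y, hyOm⟩ * QuotientGroup.mk' (Subgroup.center (Om Q)) g
    rw [← map_mul, ← map_mul]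
    congr 1
    exact Subtype.ext (h.comm h2 ((h.hf.ad h2).B_le_Fx hQ hg) hyFx)
  have hKy := hT _ hcent hord
  -- the larger group
  have hinj : Function.Injective (![2, 3] : Fin 2 → Fin 4) := by decide
  have hg := OF_sum h.hf (h.hf'.comp ![2, 3] hinj) (fun i k => h.orth i _)
  have hTq := fam_tq hF hg (by rw [Fintype.card_sum, Fintype.card_fin, Fintype.card_fin]; omega)
  have hMOm : (hg.ad h2).B ≤ Om Q := (hg.ad h2).B_le
  have hneg : (LinearEquiv.neg F : V ≃ₗ[F] V) ∉ (hg.ad h2).B := by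
    intro hN
    have h4 : LinearEquiv.neg F (f' 0) = f' 0 := by
      apply ((hg.ad h2).B_le_Fx hQ hN).2
      rw [OF.R_eq_zero_iff]
      rintro (i | i)
      · exact h.orth i 0
      · fin_cases i
        · exact h.hf'.orth 2 0 (by decide)
        · exact h.hf'.orth 3 0 (by decide)
    exact ne_neg hF (OF_ne_zero h.hf' 0) h4.symm
  obtain ⟨e⟩ := im_equiv hF hQ (by omega) hMOm hneg
  have hMC : im (Q := Q) (hg.ad h2).B ≤ Subgroup.centralizer
      ({((⟨y, hyOm⟩ : Om Q) : Om Q ⧸ Subgroup.center (Om Q))} : Set (Om Q ⧸ Subgroup.center (Om Q))) := by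
    rintro _ ⟨g, hgB, rfl⟩
    rw [Subgroup.mem_centralizer_singleton_iff]
    show QuotientGroup.mk' (Subgroup.center (Om Q)) g * QuotientGroup.mk' (Subgroup.center (Om Q)) ⟨y, hyOm⟩ =
      QuotientGroup.mk' (Subgroup.center (Om Q)) ⟨y, hyOm⟩ * QuotientGroup.mk' (Subgroup.center (Om Q)) g
    rw [← map_mul, ← map_mul]
    congr 1
    apply Subtype.ext
    -- `y` acts as `1` on the family and preserves the complement
    refine ((hg.ad h2).comm_B (c := 1) (fun x => ?_) (fun x hx => ?_) hgB).symm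
    · rw [hg.L_apply h2, map_sum, one_smul]
      refine Finset.sum_congr rfl fun i _ => ?_
      rw [map_smul]
      congr 1
      rcases i with i | i
      · exact hyf i
      · fin_cases i
        · exact hy2
        · exact hy3
    · rw [OF.R_eq_zero_iff] at hx ⊢
      have hyO : y ∈ O Q := Subgroup.commutator_le_self _ hyOm
      rintro (i | i)
      · have h4 := polar_map hyO (f i) x
        rw [hyf] at h4
        exact h4.trans (hx (Sum.inl i))
      · fin_cases i
        · have h4 := polar_map hyO (f' 2) x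
          rw [hy2] at h4
          exact h4.trans (hx (Sum.inr 0))
        · have h4 := polar_map hyO (f' 3) x
          rw [hy3] at h4
          exact h4.trans (hx (Sum.inr 1))
  have hKM : K ≤ im (Q := Q) (hg.ad h2).B := by
    rw [hK]
    have h4 : (h.hf.ad h2).B ≤ (hg.ad h2).B := by
      refine Ad.B_mono _ (hg.ad h2) hQ ?_
      intro x hx
      rw [OF.R_eq_zero_iff] at hx ⊢
      exact fun i => hx (Sum.inl i)
    rintro _ ⟨g, hgB, rfl⟩
    exact ⟨g, h4 hgB, rfl⟩
  have hKeq := comp_eq_of_le (hTq.1.congr e).qs hMC hKy hKM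
  apply hTq.2
  rw [Nat.card_congr e.toEquiv, ← hKeq, hc]

/-- **a component of order 360 is not terminal** -/
theorem not_terminal (hF : Fintype.card F = 3) (hQ : Nondeg Q) (hn : finrank F V = 7 ∨ finrank F V = 8)
    {x : Om Q ⧸ Subgroup.center (Om Q)} {K : Subgroup (Om Q ⧸ Subgroup.center (Om Q))} (hT : IsTerminalPair 2 x K)
    (hc : Nat.card K = 360) : False := by
  have := finite_G (Q := Q)
  obtain ⟨hx, hK, -, hT⟩ := hT
  obtain ⟨w, rfl, ⟨h1, h2, h3⟩ | ⟨h1, h2⟩⟩ := lift_cases hF hQ hn hx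
  · have hwO : (w : V ≃ₗ[F] V) ∈ O Q := Subgroup.commutator_le_self _ w.2
    obtain ⟨a, b, c, c', f, f', h⟩ := exists_adp hF hQ hwO (congrArg Subtype.val h1)
      (fun h => h2 (Subtype.ext h)) h3
    obtain ⟨-, hc'⟩ := h.even hF w.2
    obtain ⟨ha, hb, hKB⟩ := adp_360 hF hQ hn h hK hc
    subst ha; subst hb; subst hc'
    have hcard := h.card
    exact adp_not_terminal hF hQ (by omega) h hKB hc hT
  · obtain ⟨N, hN, hTp, hP, hcard⟩ := caseB_rs' hF hQ h1 h2
    rw [comp_eq hTp.qs hN hP hK, hcard] at hc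
    norm_num at hc

/-! ### The 2-rank -/

/-- four indices -/
def q4 : Fin 4 → Fin 7 := ![1, 2, 3, 4]

theorem q4_ne_six : ∀ i, q4 i ≠ 6 := by decide

theorem q4_ne_zero : ∀ i, q4 i ≠ 0 := by decide

theorem q4_inj : ∀ i j, q4 i = q4 j → i = j := by decide

/-- the 2-rank is at least 4 -/
theorem rank_four (hF : Fintype.card F = 3) (hQ : Nondeg Q) (hn : 7 ≤ finrank F V) :
    PRankAtLeast 2 4 (Om Q ⧸ Subgroup.center (Om Q)) := by
  classical
  have h2 := two_ne hF
  have := finite_G (Q := Q)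
  obtain ⟨m, hm⟩ : ∃ m, m + 7 = finrank F V := ⟨_, Nat.sub_add_cancel hn⟩
  have hι : Fintype.card (Fin m ⊕ Fin 7) = finrank F V := by
    rw [Fintype.card_sum, Fintype.card_fin, Fintype.card_fin, hm]
  obtain ⟨c, hc, f, hf⟩ := exists_OF_one h2 hQ hι (Sum.inr 0)
  -- the generators
  have hne : ∀ i : Fin 4, (Sum.inr (q4 i) : Fin m ⊕ Fin 7) ≠ Sum.inr 6 := by
    intro i h
    exact q4_ne_six i (Sum.inr_injective h)
  have hval : ∀ i : Fin 7, i ≠ 0 → (if (Sum.inr i : Fin m ⊕ Fin 7) = Sum.inr 0 then c else 1) = 1 := by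
    intro i hi
    rw [if_neg (fun h => hi (Sum.inr_injective h))]
  let t : Fin 4 → V ≃ₗ[F] V := fun i => sg2 h2 hf (hne i)
  have htOm : ∀ i, t i ∈ Om Q := fun i => sg2_mem_Om h2 hf (hne i) (by
    rw [hval _ (q4_ne_zero i), hval 6 (by decide)])
  have hts : ∀ i, Sgn f (t i) := fun i => sgn_sg2 h2 hf (hne i)
  let s : Fin 4 → Om Q := fun i => ⟨t i, htOm i⟩
  let u : (Fin 4 → Bool) → Om Q := fun g =>
    (if g 0 then s 0 else 1) * ((if g 1 then s 1 else 1) * ((if g 2 then s 2 else 1) * (if g 3 then s 3 else 1)))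
  have hsSD : ∀ i, s i ∈ SD Q f := fun i => hts i
  have huSD : ∀ g, u g ∈ SD Q f := by
    intro g
    have h1 : ∀ i, (if g i then s i else 1) ∈ SD Q f := by
      intro i
      split_ifs
      · exact hsSD i
      · exact one_mem _
    exact mul_mem (h1 0) (mul_mem (h1 1) (mul_mem (h1 2) (h1 3)))
  -- the action
  have hself : ∀ i : Fin 4, t i (f (Sum.inr (q4 i))) =
      -f (Sum.inr (q4 i)) := fun i => sg2_left _ _ _
  have hoth : ∀ i j : Fin 4, i ≠ j → t i (f (Sum.inr (q4 j))) =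
      f (Sum.inr (q4 j)) := by
    intro i j hij
    apply sg2_other h2 hf (hne i)
    · intro h
      exact hij (q4_inj _ _ (Sum.inr_injective h)).symm
    · intro h
      exact hne j h
  have h5 : ∀ i : Fin 4, t i (f (Sum.inr 0)) = f (Sum.inr 0) := by
    intro i
    apply sg2_other h2 hf (hne i)
    · intro h
      exact q4_ne_zero i (Sum.inr_injective h).symm
    · intro h
      exact absurd (Sum.inr_injective h) (by decide)
  have hif : ∀ (g : Fin 4 → Bool) (i : Fin 4) (v : V), (t i v = v) →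
      (((if g i then s i else 1 : Om Q)) : V ≃ₗ[F] V) v = v := by
    intro g i v hv
    split_ifs
    · exact hv
    · rfl
  have hu0 : ∀ g, (u g : V ≃ₗ[F] V) (f (Sum.inr 0)) = f (Sum.inr 0) := by
    intro g
    show ((if g 0 then s 0 else 1 : Om Q) : V ≃ₗ[F] V) (((if g 1 then s 1 else 1 : Om Q) : V ≃ₗ[F] V)
      (((if g 2 then s 2 else 1 : Om Q) : V ≃ₗ[F] V) (((if g 3 then s 3 else 1 : Om Q) : V ≃ₗ[F] V) _))) = _
    rw [hif g 3 _ (h5 3), hif g 2 _ (h5 2), hif g 1 _ (h5 1), hif g 0 _ (h5 0)]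
  have hneg : ∀ (g : Fin 4 → Bool) (i : Fin 4), (((if g i then s i else 1 : Om Q)) : V ≃ₗ[F] V)
      (f (Sum.inr (q4 i))) = if g i then -f (Sum.inr (q4 i))
        else f (Sum.inr (q4 i)) := by
    intro g i
    split_ifs
    · exact hself i
    · rfl
  have hifn : ∀ (g : Fin 4 → Bool) (i j : Fin 4), i ≠ j → ∀ (b : Bool), (((if g i then s i else 1 : Om Q)) : V ≃ₗ[F] V)
      (if b then -f (Sum.inr (q4 j)) else f (Sum.inr (q4 j))) =
      if b then -f (Sum.inr (q4 j)) else f (Sum.inr (q4 j)) := by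
    intro g i j hij b
    apply hif
    split_ifs
    · rw [map_neg, hoth i j hij]
    · exact hoth i j hij
  have huj : ∀ g j, (u g : V ≃ₗ[F] V) (f (Sum.inr (q4 j))) =
      if g j then -f (Sum.inr (q4 j)) else f (Sum.inr (q4 j)) := by
    intro g j
    show ((if g 0 then s 0 else 1 : Om Q) : V ≃ₗ[F] V) (((if g 1 then s 1 else 1 : Om Q) : V ≃ₗ[F] V)
      (((if g 2 then s 2 else 1 : Om Q) : V ≃ₗ[F] V) (((if g 3 then s 3 else 1 : Om Q) : V ≃ₗ[F] V) _))) = _
    have e : ∀ i, i ≠ j → (((if g i then s i else 1 : Om Q)) : V ≃ₗ[F] V)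
        (f (Sum.inr (q4 j))) = f (Sum.inr (q4 j)) :=
      fun i hi => hif g i _ (hoth i j hi)
    fin_cases j
    · rw [e 3 (by decide), e 2 (by decide), e 1 (by decide)]
      exact hneg g 0
    · rw [e 3 (by decide), e 2 (by decide)]
      refine (congrArg _ (hneg g 1)).trans (hifn g 0 1 (by decide) _)
    · rw [e 3 (by decide)]
      refine (congrArg _ (congrArg _ (hneg g 2))).trans ?_
      refine (congrArg _ (hifn g 1 2 (by decide) _)).trans (hifn g 0 2 (by decide) _)
    · refine (congrArg _ (congrArg _ (congrArg _ (hneg g 3)))).trans ?_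
      refine (congrArg _ (congrArg _ (hifn g 2 3 (by decide) _))).trans ?_
      refine (congrArg _ (hifn g 1 3 (by decide) _)).trans (hifn g 0 3 (by decide) _)
  refine ⟨(SD Q f).map (QuotientGroup.mk' (Subgroup.center (Om Q))), ?_, ?_, ?_⟩
  · refine ⟨⟨?_⟩⟩
    rintro ⟨_, x, hx, rfl⟩ ⟨_, y, hy, rfl⟩
    apply Subtype.ext
    show QuotientGroup.mk' (Subgroup.center (Om Q)) x * QuotientGroup.mk' (Subgroup.center (Om Q)) y =
      QuotientGroup.mk' (Subgroup.center (Om Q)) y * QuotientGroup.mk' (Subgroup.center (Om Q)) x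
    rw [← map_mul, ← map_mul]
    congr 1
    exact Subtype.ext (Sgn.comm h2 hf hι hx hy)
  · rintro _ ⟨x, hx, rfl⟩
    rw [← map_pow, pow_two]
    have : x * x = 1 := Subtype.ext (Sgn.sq hF hf hι hx)
    rw [this, map_one]
  · let ψ : (Fin 4 → Bool) → ↥((SD Q f).map (QuotientGroup.mk' (Subgroup.center (Om Q)))) :=
      fun g => ⟨_, u g, huSD g, rfl⟩
    have hψ : Function.Injective ψ := by
      intro g k hgk
      have h1 : (u g : Om Q ⧸ Subgroup.center (Om Q)) = (u k : Om Q ⧸ Subgroup.center (Om Q)) :=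
        congrArg Subtype.val hgk
      rw [QuotientGroup.eq] at h1
      rcases center_cases hF hQ (by omega) h1 with h6 | h6
      · have h7 : u g = u k := (inv_mul_eq_one.1 h6)
        funext j
        have h8 := huj g j
        rw [h7, huj k j] at h8
        have h9 := ne_neg hF (OF_ne_zero hf (Sum.inr (q4 j)))
        by_cases hg : g j = true <;> by_cases hk : k j = true
        · rw [hg, hk]
        · rw [if_neg hk, if_pos hg] at h8
          exact absurd h8 h9
        · rw [if_pos hk, if_neg hg] at h8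
          exact absurd h8.symm h9
        · rw [Bool.not_eq_true] at hg hk
          rw [hg, hk]
      · exfalso
        have h7 : (u k : V ≃ₗ[F] V) = (u g : V ≃ₗ[F] V) * LinearEquiv.neg F := by
          rw [← h6]
          show _ = (u g : V ≃ₗ[F] V) * ((u g : V ≃ₗ[F] V)⁻¹ * (u k : V ≃ₗ[F] V))
          rw [mul_inv_cancel_left]
        have h8 := hu0 k
        rw [h7] at h8
        have h9 : (u g : V ≃ₗ[F] V) (-f (Sum.inr 0)) = f (Sum.inr 0) := h8
        rw [map_neg, hu0] at h9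
        exact ne_neg hF (OF_ne_zero hf (Sum.inr 0)) h9.symm
    have h6 := Nat.card_le_card_of_injective ψ hψ
    rw [Nat.card_eq_fintype_card, Fintype.card_fun, Fintype.card_bool, Fintype.card_fin] at h6
    exact h6

theorem prank_mono {p k l : ℕ} (hp : 0 < p) (hkl : k ≤ l) {G : Type*} [Group G] (h : PRankAtLeast p l G) :
    PRankAtLeast p k G := by
  obtain ⟨A, h1, h2, h3⟩ := h
  exact ⟨A, h1, h2, (Nat.pow_le_pow_right hp hkl).trans h3⟩

end Cfsg.Agent.CharThree

end

-- merged: Cfsg.Agent.CharThree.Res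
section

/-!
# `Ω₇(3)`, `PΩ₈⁺(3)`, `PΩ₈⁻(3)` are of restricted even type (helper67)

* `orth_res` : `Ω(V)/Z`, `V` over `F₃`, `dim V = 7, 8`;
* `o73`, `o8p3`, `o8m3` : the rows of `SevenCases.LieRes`.
-/

set_option autoImplicit false
set_option linter.unusedSectionVars false

namespace Cfsg.Agent.CharThree

open QuadraticMap Module Cfsg Cfsg.Agent.LieClassical.OrthCore Cfsg.Agent.OddHalf.NI3.Bad.Sim
  Cfsg.Agent.OddHalf.NI3.Bad.Models Cfsg.Agent.LieClassical.OrthForms Cfsg.Agent.CTwoTab Cfsg.Agent.SevenCases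

universe u

section

variable {F : Type} [Field F] [Fintype F] {V : Type*} [AddCommGroup V] [Module F V] [FiniteDimensional F V]
  {Q : QuadraticForm F V}

/-- the order of a component -/
theorem comp_card (hF : Fintype.card F = 3) (hQ : Nondeg Q) (hn : finrank F V = 7 ∨ finrank F V = 8)
    {x : Om Q ⧸ Subgroup.center (Om Q)} (hx : orderOf x = 2) {K : Subgroup (Om Q ⧸ Subgroup.center (Om Q))}
    (hK : IsComponentOf K (Subgroup.centralizer ({x} : Set (Om Q ⧸ Subgroup.center (Om Q))))) :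
    Nat.card K = 360 ∨ Nat.card K = 25920 ∨ Nat.card K = 6065280 ∨ Nat.card K = 6531840 := by
  have := finite_G (Q := Q)
  exact (orth_rs hF hQ hn hx).card hK

/-- `K ≅ L₂(q)`: `|K| = 360`, `q = 9` -/
theorem psl_card {K : Type*} [Group K]
    (hK : Nat.card K = 360 ∨ Nat.card K = 25920 ∨ Nat.card K = 6065280 ∨ Nat.card K = 6531840)
    {L : Type} [Field L] [Fintype L] (hL : IsFM9 (Fintype.card L))
    (e : Nonempty (K ≃* Matrix.ProjectiveSpecialLinearGroup (Fin 2) L)) : Nat.card K = 360 ∧ Fintype.card L = 9 := by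
  obtain ⟨e⟩ := e
  have h3 := two_mul_card_PSL_two L (odd_of_fm9 hL)
  rw [← Nat.card_congr e.toEquiv] at h3
  rcases hK with h | h | h | h
  · refine ⟨h, ?_⟩
    rw [h] at h3
    rcases lt_trichotomy (Fintype.card L) 9 with h4 | h4 | h4
    · exfalso
      have := mul_sq_sub_one_lt (a := Fintype.card L) (b := 9) Fintype.card_pos h4
      omega
    · exact h4
    · exfalso
      have := mul_sq_sub_one_lt (a := 9) (b := Fintype.card L) (by norm_num) h4
      omega
  · exfalso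
    rw [h] at h3
    exact ne_of_between 37 (by norm_num) (by norm_num) (by norm_num) _ h3
  · exfalso
    rw [h] at h3
    exact ne_of_between 229 (by norm_num) (by norm_num) (by norm_num) _ h3
  · exfalso
    rw [h] at h3
    exact ne_of_between 235 (by norm_num) (by norm_num) (by norm_num) _ h3

/-- **restricted even type** -/
theorem orth_res (hF : Fintype.card F = 3) (hQ : Nondeg Q) (hn : finrank F V = 7 ∨ finrank F V = 8) :
    IsOfRestrictedEvenType (Om Q ⧸ Subgroup.center (Om Q)) := by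
  have := finite_G (Q := Q)
  have hr := rank_four hF hQ (by omega)
  have hC := orth_compC2 hF hQ hn
  refine ⟨evenType_of_comp hC (prank_mono (by norm_num) (by norm_num) hr), ?_, ?_, ?_⟩
  · intro x K hx hK L _ _ hL he
    have h1 := psl_card (comp_card hF hQ hn hx hK) hL he
    exact ⟨Or.inr (Or.inr (Or.inl h1.2)), hr⟩
  · intro x K hT L _ _ hL he
    exact (not_terminal hF hQ hn hT (psl_card (comp_card hF hQ hn hT.1 hT.2.1) hL he).1).elim
  · rintro x y K - - hT ⟨L, _, _, hL, ⟨e⟩⟩ - hz4 -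
    exfalso
    have h1 := comp_card hF hQ hn hT.1 hT.2.1
    have h2 := Subgroup.card_eq_card_quotient_mul_card_subgroup (Subgroup.center ↥K)
    rw [Nat.card_congr e.toEquiv, card_PSL_three L hL] at h2
    omega

end

theorem sml_refl {F V : Type*} [Field F] [AddCommGroup V] [Module F V] (Q : QuadraticForm F V) : Sml Q Q :=
  ⟨LinearEquiv.refl F V, 1, one_ne_zero, fun v => by rw [one_mul]; rfl⟩

theorem o73 : Res.{u} (fun X _ => OmegaOdd (fun m q => m = 3 ∧ q = 3) X) := by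
  rintro G _ _ ⟨F, _, _, m, -, ⟨rfl, hF⟩, ⟨e⟩⟩
  have hQ := nondeg_oddForm 3 F (two_ne hF)
  obtain ⟨e'⟩ := (sml_refl (oddForm 3 F)).pomega
  rw [coe_oddForm] at e'
  exact ResEven.Congr.restricted_of (e'.trans e.symm) (orth_res hF hQ (Or.inl (finrank_odd 3)))

theorem o8p3 : Res.{u} (fun X _ => OmegaPlusOdd (fun m q => m = 4 ∧ q = 3) X) := by
  rintro G _ _ ⟨F, _, _, m, -, ⟨rfl, hF⟩, ⟨e⟩⟩
  have hQ := nondeg_plusForm 4 F
  obtain ⟨e'⟩ := (sml_refl (plusForm 4 F)).pomega
  rw [coe_plusForm] at e'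
  exact ResEven.Congr.restricted_of (e'.trans e.symm) (orth_res hF hQ (Or.inr (finrank_plus 4)))

theorem o8m3 : Res.{u} (fun X _ => OmegaMinusOdd (fun m q => m = 4 ∧ q = 3) X) := by
  rintro G _ _ ⟨F, _, _, m, a, b, -, ⟨rfl, hF⟩, hab, ⟨e⟩⟩
  have hQ := nondeg_minusForm (4 - 1) F a b hab
  obtain ⟨e'⟩ := (sml_refl (minusForm (4 - 1) F a b)).pomega
  rw [coe_minusForm] at e'
  exact ResEven.Congr.restricted_of (e'.trans e.symm) (orth_res hF hQ (Or.inr (finrank_minus (by norm_num))))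

end Cfsg.Agent.CharThree

end

private theorem dce_1a54be8e196c : _root_.True := by
  try have : _root_.True := by simp only [_root_.Cfsg.centralizerPPrimeCore.eq_1]
  try have : _root_.True := by simp only [_root_.Cfsg.Agent.OddHalf.NI3.Bad.Frame.sg2.congr_simp]
  try have : _root_.True := by simp only [_root_.Cfsg.Agent.CharThree.SD.congr_simp]
  exact _root_.True.intro
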