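import Cfsg.Agent.KFacts.RgdLieCharP
import Cfsg.Agent.CTwoTab.Base
import Cfsg.Agent.SigTab.RestList_m3
import Cfsg.Agent.CharThree.Res
import Cfsg.Agent.S0292
import Cfsg.Agent.S0293
import Cfsg.Agent.S0294
import Cfsg.Agent.FastGrp
import Cfsg.Agent.Prune
set_option linter.all false
prune_inst 0x7f00000000000000000000000000000000000000000000000000000000000000000000000000000000000000000000000000000000000000000000000000000000000000000000000000000000000000003fffffffffffffffffffffffffffbeffbdffffffff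
open scoped Cfsg.Agent.FastGrp

-- merged: Cfsg.Agent.CharThree.NoComp
section

/-!
# Groups of Lie type in characteristic `p`: no components in the centralizers of elements of order `p` (helper67)

`G` a finite simple group with the filtration of Borel–Tits (`HasFilt p G`; all groups of Lie type of characteristic `p`
except `Sz(q)`, `²F₄(q)`, `²G₂(q)`).  For `x` of order `p`: `O_{p'}(C(x)) = 1` and `C(x)` has no component
(`not_isComponentOf`), so that `C(x)/O_{p'}(C(x))` has no component (`no_isComponent_quot`) and `LpAll p G P`,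
`LpoAll p G P` hold for every property `P` (`lpAll_of_filt`, `lpoAll_of_filt`, `lpAll_of_lie`, `lpoAll_of_lie`).
-/

set_option autoImplicit false

namespace Cfsg.Agent.CharThree

open Subgroup Cfsg Cfsg.Agent.KFacts.RgdFilt

universe u

section comp

variable {G : Type*} [Group G] [Finite G] [IsSimpleGroup G] {p : ℕ} [Fact p.Prime]

/-- a component of a normal subgroup of `N` is a component of `N` -/
theorem isComponentOf_of_normal {X : Type*} [Group X] {K C N : Subgroup X} (hCN : C ≤ N)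
    (hn : ∀ g ∈ N, ∀ c ∈ C, g * c * g⁻¹ ∈ C) (hK : IsComponentOf K C) : IsComponentOf K N := by
  have hKN : K ≤ N := hK.1.trans hCN
  refine ⟨hKN, ?_, ?_⟩
  · have h1 : (C.subgroupOf N).IsSubnormal := Subgroup.Normal.isSubnormal ⟨fun c hc g => by
      rw [mem_subgroupOf] at hc ⊢
      exact hn g g.2 c hc⟩
    have h2 : ((K.subgroupOf N).subgroupOf (C.subgroupOf N)).IsSubnormal := by
      have h3 := hK.2.1.comap (subgroupOfEquivOfLe hCN).toMonoidHom
      have h4 : (K.subgroupOf C).comap (subgroupOfEquivOfLe hCN).toMonoidHom =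
          (K.subgroupOf N).subgroupOf (C.subgroupOf N) := by
        ext x
        simp [mem_subgroupOf]
      rwa [h4] at h3
    refine h2.trans ?_ h1
    intro x hx
    rw [mem_subgroupOf] at hx ⊢
    exact hK.1 hx
  · exact SignalizersComponents.Components.isQuasisimple_of_mulEquiv
      ((subgroupOfEquivOfLe hK.1).trans (subgroupOfEquivOfLe hKN).symm) hK.2.2

/-- **Borel–Tits**: `C(x)` has no component, `x` of order `p`. -/
theorem not_isComponentOf (hG : HasFilt p G) (hc : ∃ a b : G, a * b ≠ b * a) {x : G} (hx : orderOf x = p)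
    (K : Subgroup G) : ¬ IsComponentOf K (centralizer ({x} : Set G)) := by
  intro hK
  have hp : p.Prime := Fact.out
  have hZ : IsPGroup p (zpowers x) := by
    rw [IsPGroup.iff_card]
    exact ⟨1, by rw [Nat.card_zpowers, hx, pow_one]⟩
  have hZ1 : zpowers x ≠ ⊥ := by
    rw [Ne, zpowers_eq_bot]
    rintro rfl
    rw [orderOf_one] at hx
    exact hp.one_lt.ne hx
  set N := normalizer ((zpowers x : Subgroup G) : Set G) with hN
  have hcent : ∀ {y : G}, y ∈ centralizer ({x} : Set G) ↔ ∀ k ∈ zpowers x, y * k = k * y := by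
    intro y
    rw [mem_centralizer_singleton_iff]
    constructor
    · intro hy k hk
      obtain ⟨j, rfl⟩ := mem_zpowers_iff.1 hk
      have : Commute y x := hy
      exact this.zpow_right j
    · intro hy
      exact hy x (mem_zpowers x)
  have hCN : centralizer ({x} : Set G) ≤ N := by
    intro y hy
    refine centralizer_le_normalizer _ ?_
    rw [mem_centralizer_iff]
    intro k hk
    exact (hcent.1 hy k hk).symm
  have hn : ∀ g ∈ N, ∀ c ∈ centralizer ({x} : Set G), g * c * g⁻¹ ∈ centralizer ({x} : Set G) := by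
    intro g hg y hy
    rw [hcent] at hy ⊢
    intro k hk
    have h1 : g⁻¹ * k * g ∈ zpowers x := by
      have := (mem_normalizer_iff.1 (inv_mem hg) k).1 hk
      rwa [inv_inv] at this
    have h2 := hy _ h1
    calc g * y * g⁻¹ * k = g * (y * (g⁻¹ * k * g)) * g⁻¹ := by group
      _ = g * (g⁻¹ * k * g * y) * g⁻¹ := by rw [h2]
      _ = _ := by group
  have hKN := isComponentOf_of_normal hCN hn hK
  have hnormal : (pCore p ↥N).Normal := Lib.Cores.pCore_normal p
  refine CTwoTab.no_comp_of_pGroup (p := p) (C := N) (R := (pCore p ↥N).map N.subtype) (map_subtype_le _) ?_ ?_ ?_ K hKN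
  · rintro c hc _ ⟨r, hr, rfl⟩
    exact ⟨_, hnormal.conj_mem r hr ⟨c, hc⟩, rfl⟩
  · exact (Lib.Cores.pCore_isPGroup (G := ↥N) p).map _
  · intro c hc' h
    have h1 := hG.local_char hc hZ hZ1
    refine ⟨⟨c, hc'⟩, h1 ?_, rfl⟩
    rw [mem_centralizer_iff]
    intro r hr
    exact Subtype.ext (h r ⟨r, hr, rfl⟩).symm

/-- `C(x)/O_{p'}(C(x))` has no component, `x` of order `p`. -/
theorem no_isComponent_quot (hG : HasFilt p G) (hc : ∃ a b : G, a * b ≠ b * a) {x : G} (hx : orderOf x = p)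
    (K : Subgroup (↥(centralizer ({x} : Set G)) ⧸ pPrimeCore p ↥(centralizer ({x} : Set G)))) : ¬ IsComponent K := by
  intro hK
  have hb : pPrimeCore p ↥(centralizer ({x} : Set G)) = ⊥ :=
    CTwoTab.centralizerPPrimeCore_eq_bot_iff.1 (hG.core hc hx)
  let C := centralizer ({x} : Set G)
  let e : ↥C ⧸ pPrimeCore p ↥C ≃* ↥C := (QuotientGroup.quotientMulEquivOfEq hb).trans QuotientGroup.quotientBot
  have hK1 : IsComponent (K.map e.toMonoidHom) := SignalizersComponents.Components.isComponent_map_equiv e hK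
  refine not_isComponentOf hG hc hx ((K.map e.toMonoidHom).map C.subtype) ⟨map_subtype_le _, ?_⟩
  have h1 : ((K.map e.toMonoidHom).map C.subtype).subgroupOf C = K.map e.toMonoidHom := by
    ext x
    simp [mem_subgroupOf]
  rw [h1]
  exact hK1

end comp

section main

variable {G : Type u} [Group G] [Finite G] [IsSimpleGroup G] {p : ℕ}

theorem lpAll_of_filt (hp : p.Prime) (hG : HasFilt p G) (hc : ∃ a b : G, a * b ≠ b * a)
    (P : ∀ (K : Type u) [Group K], Prop) : LpAll p G P := by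
  have : Fact p.Prime := ⟨hp⟩
  intro x hx K hK
  exact absurd hK (no_isComponent_quot hG hc hx K)

theorem lpoAll_of_filt (hp : p.Prime) (hG : HasFilt p G) (hc : ∃ a b : G, a * b ≠ b * a)
    (P : ∀ (K : Type u) [Group K], Prop) : LpoAll p G P :=
  fun x hx _ K hK => lpAll_of_filt hp hG hc P x hx K hK

theorem lpoAll_of_lie (hp : p.Prime) (hG : KFacts.RgdLieCharP.IsLieFilt p G) (hc : ∃ a b : G, a * b ≠ b * a)
    (P : ∀ (K : Type u) [Group K], Prop) : LpoAll p G P :=
  lpoAll_of_filt hp (KFacts.RgdLieCharP.hasFilt_of_lie hG) hc P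

end main

end Cfsg.Agent.CharThree

end

-- merged: Cfsg.Agent.CharThree.Rows
section

/-!
# `Ω₇(3)`, `PΩ₈⁺(3)`, `PΩ₈⁻(3)`: `L₃°` and `σ(G) ⊆ {3}` (helper67)

The rows `o73`, `o8p3`, `o8m3` of `SigTab.FiveC` (`cthree_*`) and of `SigTab.FiveSig` (`sig_*`).
-/

set_option autoImplicit false
set_option linter.unusedSectionVars false

namespace Cfsg.Agent.CharThree

open QuadraticMap Module Cfsg Cfsg.Agent.LieClassical.OrthCore Cfsg.Agent.OddHalf.NI3.Bad.Sim
  Cfsg.Agent.OddHalf.NI3.Bad.Models Cfsg.Agent.LieClassical.OrthForms Cfsg.Agent.CTwoTab Cfsg.Agent.SevenCases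
  Cfsg.Agent.SigTab

universe u

/-! ### `L₃(G)` is empty -/

/-- the central quotient of a quasisimple group is not commutative -/
theorem noncomm_of_qs {H : Type*} [Group H] (h : IsQuasisimple H) :
    ∃ a b : H ⧸ Subgroup.center H, a * b ≠ b * a := by
  by_contra hcon
  push Not at hcon
  have hp := h.1
  have hc : Subgroup.center (H ⧸ Subgroup.center H) = ⊥ := Group.IsPerfect.center_quotient_center_eq_bot H
  have hn : Nontrivial (H ⧸ Subgroup.center H) := h.2.toNontrivial
  obtain ⟨x, hx⟩ := exists_ne (1 : H ⧸ Subgroup.center H)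
  apply hx
  rw [← Subgroup.mem_bot, ← hc, Subgroup.mem_center_iff]
  exact fun y => hcon y x

section

variable {F : Type*} [Field F] [Fintype F] {V : Type*} [AddCommGroup V] [Module F V] [FiniteDimensional F V]
  {Q : QuadraticForm F V}

/-- simple and not commutative -/
theorem simple_of {G : Type*} [Group G] (hQ : Nondeg Q) (hn : 5 ≤ finrank F V)
    (e : G ≃* Om Q ⧸ Subgroup.center (Om Q)) : IsSimpleGroup G ∧ ∃ a b : G, a * b ≠ b * a := by
  have hq := quasi hQ hn
  have h1 := hq.2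
  refine ⟨e.isSimpleGroup, ?_⟩
  obtain ⟨a, b, hab⟩ := noncomm_of_qs hq
  refine ⟨e.symm a, e.symm b, fun h => hab ?_⟩
  rw [← map_mul, ← map_mul] at h
  exact e.symm.injective h

end

theorem charP_three (F : Type) [Field F] [Fintype F] (hF : Fintype.card F = 3) : CharP F 3 := by
  have : Fact (Nat.Prime 3) := ⟨Nat.prime_three⟩
  exact charP_of_card_eq_prime hF

theorem cthree_o73 : CThree.{u} (fun X _ => OmegaOdd (fun m q => m = 3 ∧ q = 3) X) := by
  rintro G _ _ ⟨F, _, _, m, ho, ⟨rfl, hF⟩, ⟨e⟩⟩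
  have hQ := nondeg_oddForm 3 F (two_ne hF)
  obtain ⟨e'⟩ := (sml_refl (oddForm 3 F)).pomega
  rw [coe_oddForm] at e'
  obtain ⟨hs, hc⟩ := simple_of hQ (by rw [finrank_odd 3]; norm_num) (e.trans e'.symm)
  have := charP_three F hF
  exact lpoAll_of_lie Nat.prime_three (Or.inr (Or.inr (Or.inr (Or.inl
    ⟨F, inferInstance, inferInstance, inferInstance, 3, le_rfl, ho, ⟨e⟩⟩)))) hc _

theorem cthree_o8p3 : CThree.{u} (fun X _ => OmegaPlusOdd (fun m q => m = 4 ∧ q = 3) X) := by
  rintro G _ _ ⟨F, _, _, m, ho, ⟨rfl, hF⟩, ⟨e⟩⟩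
  have hQ := nondeg_plusForm 4 F
  obtain ⟨e'⟩ := (sml_refl (plusForm 4 F)).pomega
  rw [coe_plusForm] at e'
  obtain ⟨hs, hc⟩ := simple_of hQ (by rw [finrank_plus 4]; norm_num) (e.trans e'.symm)
  have := charP_three F hF
  exact lpoAll_of_lie Nat.prime_three (Or.inr (Or.inr (Or.inr (Or.inr (Or.inl
    ⟨F, inferInstance, inferInstance, inferInstance, 4, le_rfl, ⟨e⟩⟩))))) hc _

theorem cthree_o8m3 : CThree.{u} (fun X _ => OmegaMinusOdd (fun m q => m = 4 ∧ q = 3) X) := by
  rintro G _ _ ⟨F, _, _, m, a, b, ho, ⟨rfl, hF⟩, hab, ⟨e⟩⟩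
  have hQ := nondeg_minusForm (4 - 1) F a b hab
  obtain ⟨e'⟩ := (sml_refl (minusForm (4 - 1) F a b)).pomega
  rw [coe_minusForm] at e'
  obtain ⟨hs, hc⟩ := simple_of hQ (by rw [finrank_minus (m := 4) (by norm_num)]; norm_num) (e.trans e'.symm)
  have := charP_three F hF
  exact lpoAll_of_lie Nat.prime_three (Or.inr (Or.inr (Or.inr (Or.inr (Or.inr (Or.inl
    ⟨F, inferInstance, inferInstance, inferInstance, 4, a, b, le_rfl, hab, ⟨e⟩⟩)))))) hc _

/-! ### `σ(G) ⊆ {3}` -/

theorem pow_dvd_of_rank {p k : ℕ} (hp : p.Prime) {G : Type*} [Group G] [Finite G] (h : PRankAtLeast p k G) :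
    p ^ k ∣ Nat.card G := by
  have : Fact p.Prime := ⟨hp⟩
  obtain ⟨A, h1, h2, h3⟩ := h
  have hA : IsPGroup p A := fun a => ⟨1, by
    rw [pow_one]; exact Subtype.ext (h2 a a.2)⟩
  obtain ⟨n, hn⟩ := IsPGroup.iff_card.1 hA
  rw [hn] at h3
  exact (pow_dvd_pow p ((Nat.pow_le_pow_iff_right hp.one_lt).1 h3)).trans (hn ▸ Subgroup.card_subgroup_dvd_card A)

theorem sigma_three {G : Type*} [Group G] [Finite G] {n : ℕ} (hn : Nat.card G = n)
    (h : ∀ p : ℕ, p.Prime → p ^ 4 ∣ n → p = 2 ∨ p = 3) : ∀ p ∈ sigmaSet G, p = 3 := by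
  rintro p ⟨hp, hp2, S, M, -, hr⟩
  have h1 := (pow_dvd_of_rank hp hr).trans (Subgroup.card_subgroup_dvd_card M)
  rw [hn] at h1
  exact (h p hp h1).resolve_left hp2

theorem sig_o73 : SigThree.{u} (fun X _ => OmegaOdd (fun m q => m = 3 ∧ q = 3) X) := by
  rintro G _ _ ⟨F, _, _, m, ho, ⟨rfl, hF⟩, ⟨e⟩⟩
  have hc := S0292.result (F := F) hF (by decide) 3 le_rfl
  rw [← Nat.card_congr e.toEquiv, Finset.prod_range_succ, Finset.prod_range_succ, Finset.prod_range_succ,
    Finset.prod_range_zero] at hc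
  norm_num at hc
  refine sigma_three (n := 4585351680) (by omega) ?_
  intro p hp h
  have h1 : p ∣ 2 ^ 9 * (3 ^ 9 * (5 * (7 * 13))) := (dvd_pow_self p (by norm_num : 4 ≠ 0)).trans (by norm_num; exact h)
  rw [hp.dvd_mul, hp.dvd_mul, hp.dvd_mul, hp.dvd_mul] at h1
  rcases h1 with h1 | h1 | h1 | h1 | h1
  · exact Or.inl ((Nat.prime_dvd_prime_iff_eq hp Nat.prime_two).1 (hp.dvd_of_dvd_pow h1))
  · exact Or.inr ((Nat.prime_dvd_prime_iff_eq hp Nat.prime_three).1 (hp.dvd_of_dvd_pow h1))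
  all_goals
    exfalso
    rw [Nat.prime_dvd_prime_iff_eq hp (by norm_num)] at h1
    rw [h1] at h
    revert h
    norm_num

theorem sig_o8p3 : SigThree.{u} (fun X _ => OmegaPlusOdd (fun m q => m = 4 ∧ q = 3) X) := by
  rintro G _ _ ⟨F, _, _, m, ho, ⟨rfl, hF⟩, ⟨e⟩⟩
  have hc := S0293.result (F := F) hF 4 le_rfl
  rw [← Nat.card_congr e.toEquiv, Finset.prod_range_succ, Finset.prod_range_succ, Finset.prod_range_succ,
    Finset.prod_range_zero] at hc
  norm_num at hc
  refine sigma_three (n := 4952179814400) (by omega) ?_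
  intro p hp h
  have h1 : p ∣ 2 ^ 12 * (3 ^ 12 * (5 ^ 2 * (7 * 13))) := (dvd_pow_self p (by norm_num : 4 ≠ 0)).trans (by norm_num; exact h)
  rw [hp.dvd_mul, hp.dvd_mul, hp.dvd_mul, hp.dvd_mul] at h1
  rcases h1 with h1 | h1 | h1 | h1 | h1
  · exact Or.inl ((Nat.prime_dvd_prime_iff_eq hp Nat.prime_two).1 (hp.dvd_of_dvd_pow h1))
  · exact Or.inr ((Nat.prime_dvd_prime_iff_eq hp Nat.prime_three).1 (hp.dvd_of_dvd_pow h1))
  · exfalso
    have h2 := (Nat.prime_dvd_prime_iff_eq hp (by norm_num)).1 (hp.dvd_of_dvd_pow h1)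
    rw [h2] at h
    revert h
    norm_num
  all_goals
    exfalso
    rw [Nat.prime_dvd_prime_iff_eq hp (by norm_num)] at h1
    rw [h1] at h
    revert h
    norm_num

theorem sig_o8m3 : SigThree.{u} (fun X _ => OmegaMinusOdd (fun m q => m = 4 ∧ q = 3) X) := by
  rintro G _ _ ⟨F, _, _, m, a, b, ho, ⟨rfl, hF⟩, hab, ⟨e⟩⟩
  have hc := S0294.result (F := F) hF 4 le_rfl a b hab
  rw [← Nat.card_congr e.toEquiv, Finset.prod_range_succ, Finset.prod_range_succ, Finset.prod_range_succ,
    Finset.prod_range_zero] at hc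
  norm_num at hc
  refine sigma_three (n := 10151968619520) (by omega) ?_
  intro p hp h
  have h1 : p ∣ 2 ^ 10 * (3 ^ 12 * (5 * (7 * (13 * 41)))) := (dvd_pow_self p (by norm_num : 4 ≠ 0)).trans (by norm_num; exact h)
  rw [hp.dvd_mul, hp.dvd_mul, hp.dvd_mul, hp.dvd_mul, hp.dvd_mul] at h1
  rcases h1 with h1 | h1 | h1 | h1 | h1 | h1
  · exact Or.inl ((Nat.prime_dvd_prime_iff_eq hp Nat.prime_two).1 (hp.dvd_of_dvd_pow h1))
  · exact Or.inr ((Nat.prime_dvd_prime_iff_eq hp Nat.prime_three).1 (hp.dvd_of_dvd_pow h1))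
  all_goals
    exfalso
    rw [Nat.prime_dvd_prime_iff_eq hp (by norm_num)] at h1
    rw [h1] at h
    revert h
    norm_num

end Cfsg.Agent.CharThree

end
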